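/-
Elementary facts on the Sylow 2-subgroups of type `U₃(4)`.
-/
import Cfsg.Agent.Lyons.Setting
import Cfsg.Agent.BenderSE.Ring2.UBasic

set_option autoImplicit false
set_option linter.unusedSectionVars false
set_option linter.style.haveILetI false

namespace Cfsg.Lib.Lyons

open Subgroup Cfsg.Lib.BenderSE.Ring2

universe u

variable {G : Type u} [Group G] {R : Subgroup G}

/-- an element of odd order moving `x` by an element it fixes, of order dividing 4, fixes `x` -/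
theorem fix_of_shift {g x w : G} (hg : Odd (orderOf g)) (h1 : g * x * g⁻¹ = x * w)
    (h2 : g * w * g⁻¹ = w) (h4 : w ^ 4 = 1) : g * x * g⁻¹ = x := by
  have key : ∀ j : ℕ, g ^ j * x * (g ^ j)⁻¹ = x * w ^ j := by
    intro j
    induction j with
    | zero => simp
    | succ j ih =>
      have h3 : g * w ^ j * g⁻¹ = w ^ j := by rw [← conj_pow, h2]
      calc g ^ (j + 1) * x * (g ^ (j + 1))⁻¹ = g * (g ^ j * x * (g ^ j)⁻¹) * g⁻¹ := by
            rw [pow_succ']; group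
        _ = (g * x * g⁻¹) * (g * w ^ j * g⁻¹) := by rw [ih]; group
        _ = x * w ^ (j + 1) := by rw [h1, h3, mul_assoc, ← pow_succ']
  have h5 := key (orderOf g)
  rw [pow_orderOf_eq_one, one_mul, inv_one, mul_one] at h5
  have h6 : w ^ orderOf g = 1 := (left_eq_mul.1 h5)
  have hco : Nat.Coprime (orderOf g) 4 := by
    rw [show (4 : ℕ) = 2 ^ 2 from rfl]
    exact (Nat.coprime_two_right.2 hg).pow_right 2
  have hw : w = 1 := by
    have := pow_gcd_eq_one.2 ⟨h6, h4⟩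
    rwa [Nat.Coprime.gcd_eq_one hco, pow_one] at this
  rw [h1, hw, mul_one]

namespace UFour

theorem cen_sq (h : UFour R) {z : G} (hz : z ∈ cenOf R) : z * z = 1 := (h.cen_iff z hz.1).2 hz

theorem cen_inv (h : UFour R) {z : G} (hz : z ∈ cenOf R) : z⁻¹ = z :=
  inv_eq_of_mul_eq_one_right (h.cen_sq hz)

theorem pow_four (h : UFour R) {x : G} (hx : x ∈ R) : x ^ 4 = 1 := by
  rw [show (4 : ℕ) = 2 * 2 from rfl, pow_mul, pow_two, pow_two]
  exact h.cen_sq (h.sq_cen x hx)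

theorem sq_ne_one (h : UFour R) {x : G} (hx : x ∈ R) (hxW : x ∉ cenOf R) : x * x ≠ 1 :=
  fun e => hxW ((h.cen_iff x hx).1 e)

theorem orderOf_eq_two (h : UFour R) {z : G} (hz : z ∈ cenOf R) (h1 : z ≠ 1) : orderOf z = 2 :=
  orderOf_eq_prime (by rw [pow_two]; exact h.cen_sq hz) h1

theorem orderOf_eq_four (h : UFour R) {x : G} (hx : x ∈ R) (hxW : x ∉ cenOf R) : orderOf x = 4 := by
  haveI : Fact (Nat.Prime 2) := ⟨Nat.prime_two⟩
  have h2 : ¬ x ^ 2 ^ 1 = 1 := by rw [pow_one, pow_two]; exact h.sq_ne_one hx hxW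
  exact orderOf_eq_prime_pow h2 (h.pow_four hx)

theorem mem_cen_of_sq (h : UFour R) {x : G} (hx : x ∈ R) (h1 : x ^ 2 = 1) : x ∈ cenOf R :=
  (h.cen_iff x hx).1 (by rwa [← pow_two])

theorem comm_cen (h : UFour R) {x y : G} (hx : x ∈ R) (hy : y ∈ R) :
    x * y * x⁻¹ * y⁻¹ ∈ cenOf R := by
  have h1 := h.sq_cen _ (mul_mem hx hy)
  have h2 := h.sq_cen _ (inv_mem hy)
  have h3 := h.sq_cen _ hx
  have e : x * y * x⁻¹ * y⁻¹ = x * y * (x * y) * (y⁻¹ * (x * x)⁻¹ * y) * (y⁻¹ * y⁻¹) := by group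
  rw [e, show y⁻¹ * (x * x)⁻¹ * y = (x * x)⁻¹ by
    rw [cenOf_comm (inv_mem h3) (inv_mem hy)]; group]
  exact mul_mem (mul_mem h1 (inv_mem h3)) h2

theorem sq_coset (h : UFour R) {x w : G} (hx : x ∈ R) (hw : w ∈ cenOf R) : x * w * (x * w) = x * x := by
  calc x * w * (x * w) = x * (w * x) * w := by group
    _ = x * x * (w * w) := by rw [← cenOf_comm hw hx]; group
    _ = x * x := by rw [h.cen_sq hw, mul_one]

/-- the commutator with a fixed element is multiplicative -/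
theorem comm_mul (h : UFour R) {x y y' : G} (hx : x ∈ R) (hy : y ∈ R) (hy' : y' ∈ R) :
    y * y' * x * (y * y')⁻¹ * x⁻¹ = y * x * y⁻¹ * x⁻¹ * (y' * x * y'⁻¹ * x⁻¹) := by
  have h1 := h.comm_cen hy' hx
  set k := y' * x * y'⁻¹ * x⁻¹ with hk
  calc y * y' * x * (y * y')⁻¹ * x⁻¹ = y * k * (x * y⁻¹ * x⁻¹) := by rw [hk]; group
    _ = k * (y * x * y⁻¹ * x⁻¹) := by rw [cenOf_comm h1 hy]; group
    _ = _ := (cenOf_comm h1 (h.comm_cen hy hx).1).symm

theorem cent_comm (h : UFour R) {x : G} (hx : x ∈ R) (hxW : x ∉ cenOf R) {a b : G}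
    (ha : a ∈ R ⊓ centralizer ({x} : Set G)) (hb : b ∈ R ⊓ centralizer ({x} : Set G)) : a * b = b * a :=
  h.trans a ha.1 x hx b hb.1 hxW (mem_centralizer_singleton_iff.1 ha.2)
    (mem_centralizer_singleton_iff.1 hb.2).symm

theorem cen_le_cent (x : G) (hx : x ∈ R) : cenOf R ≤ R ⊓ centralizer ({x} : Set G) := fun _ hz =>
  ⟨hz.1, mem_centralizer_singleton_iff.2 (cenOf_comm hz hx).symm⟩

theorem card_cent [Finite G] (h : UFour R) {x : G} (hx : x ∈ R) (hxW : x ∉ cenOf R) :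
    Nat.card ↥(R ⊓ centralizer ({x} : Set G)) = 16 := by
  set A := R ⊓ centralizer ({x} : Set G) with hA
  let sq : A →* cenOf R := MonoidHom.mk' (fun a => ⟨(a : G) * a, h.sq_cen _ a.2.1⟩) fun a b => Subtype.ext (by
    show (a : G) * b * (a * b) = a * a * (b * b)
    calc (a : G) * b * (a * b) = a * (b * a) * b := by group
      _ = _ := by rw [h.cent_comm hx hxW b.2 a.2]; group)
  have hsurj : Function.Surjective sq := fun z => by
    obtain ⟨y, hy, h1, h2⟩ := h.sqr x hx hxW z z.2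
    exact ⟨⟨y, hy, mem_centralizer_singleton_iff.2 h1.symm⟩, Subtype.ext h2⟩
  have hker : Nat.card sq.ker = 4 := by
    rw [← h.card_cen]
    exact Nat.card_congr
      { toFun := fun a => ⟨((a : A) : G), (h.cen_iff ((a : A) : G) (a : A).2.1).1 (congrArg Subtype.val a.2)⟩
        invFun := fun z => ⟨⟨z, cen_le_cent x hx z.2⟩, Subtype.ext (h.cen_sq z.2)⟩
        left_inv := fun _ => rfl
        right_inv := fun _ => rfl }
  rw [← sq.ker.card_mul_index, Subgroup.index_ker, hker, MonoidHom.range_eq_top.2 hsurj, card_top, h.card_cen]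

/-- the class of a noncentral element is its coset of the centre -/
theorem exists_conj_eq_mul [Finite G] (h : UFour R) {x z : G} (hx : x ∈ R) (hxW : x ∉ cenOf R)
    (hz : z ∈ cenOf R) : ∃ y ∈ R, y * x * y⁻¹ = z * x := by
  let κ : R →* cenOf R := MonoidHom.mk' (fun y => ⟨(y : G) * x * (y : G)⁻¹ * x⁻¹, h.comm_cen y.2 hx⟩)
    fun a b => Subtype.ext (h.comm_mul hx a.2 b.2)
  have hker : Nat.card κ.ker = 16 := by
    rw [← h.card_cent hx hxW]
    exact Nat.card_congr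
      { toFun := fun y => ⟨((y : R) : G), (y : R).2, mem_centralizer_singleton_iff.2
          (mul_inv_eq_iff_eq_mul.1 (mul_inv_eq_one.1 (congrArg Subtype.val y.2)))⟩
        invFun := fun y => ⟨⟨y, y.2.1⟩, Subtype.ext (mul_inv_eq_one.2
          (mul_inv_eq_iff_eq_mul.2 (mem_centralizer_singleton_iff.1 y.2.2)))⟩
        left_inv := fun _ => rfl
        right_inv := fun _ => rfl }
  have hrange : κ.range = ⊤ := by
    refine eq_top_of_card_eq _ ?_
    have h1 := κ.ker.card_mul_index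
    rw [Subgroup.index_ker, hker, h.card_all] at h1
    rw [h.card_cen]
    omega
  obtain ⟨y, hy⟩ := MonoidHom.range_eq_top.1 hrange ⟨z, hz⟩
  exact ⟨y, y.2, mul_inv_eq_iff_eq_mul.1 (congrArg Subtype.val hy)⟩

/-- an element of odd order normalising `R`, fixing the centre and one noncentral coset, centralises `R` -/
theorem semifree (h : UFour R) {g c : G} (hgo : Odd (orderOf g)) (hgR : ∀ x ∈ R, g * x * g⁻¹ ∈ R)
    (hgZ : ∀ z ∈ cenOf R, g * z = z * g) (hc : c ∈ R) (hcW : c ∉ cenOf R)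
    (hgc : g * c * g⁻¹ * c⁻¹ ∈ cenOf R) : ∀ y ∈ R, g * y * g⁻¹ = y := by
  have hfix : ∀ z ∈ cenOf R, g * z * g⁻¹ = z := fun z hz => mul_inv_eq_iff_eq_mul.2 (hgZ z hz)
  -- `g` fixes `c`
  have hc' : g * c * g⁻¹ = c := by
    refine fix_of_shift hgo ?_ (hfix _ hgc) ?_
    · rw [cenOf_comm hgc hc]; group
    · exact h.pow_four hgc.1
  -- and its centraliser
  have hA : ∀ y ∈ R ⊓ centralizer ({c} : Set G), g * y * g⁻¹ = y := by
    intro y hy
    have hgy : g * y * g⁻¹ ∈ R ⊓ centralizer ({c} : Set G) :=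
      ⟨hgR y hy.1, mem_centralizer_singleton_iff.2 (by
        conv_lhs => rw [← hc']
        conv_rhs => rw [← hc']
        calc g * y * g⁻¹ * (g * c * g⁻¹) = g * (y * c) * g⁻¹ := by group
          _ = g * (c * y) * g⁻¹ := by rw [mem_centralizer_singleton_iff.1 hy.2]
          _ = _ := by group)⟩
    set w := y⁻¹ * (g * y * g⁻¹) with hw
    have hwA : w ∈ R ⊓ centralizer ({c} : Set G) := mul_mem (inv_mem hy) hgy
    have hwW : w ∈ cenOf R := (h.cen_iff w hwA.1).1 (by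
      calc w * w = y⁻¹ * (g * y * g⁻¹ * y⁻¹) * (g * y * g⁻¹) := by rw [hw]; group
        _ = (y * y)⁻¹ * (g * (y * y) * g⁻¹) := by
          rw [h.cent_comm hc hcW hgy (inv_mem hy)]; group
        _ = 1 := by rw [hfix _ (h.sq_cen y hy.1), inv_mul_cancel])
    refine fix_of_shift hgo (w := w) ?_ (hfix _ hwW) (h.pow_four hwW.1)
    rw [hw, mul_inv_cancel_left]
  intro y hy
  set w := y⁻¹ * (g * y * g⁻¹) with hw
  have hwR : w ∈ R := mul_mem (inv_mem hy) (hgR y hy)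
  have hwA : w ∈ R ⊓ centralizer ({c} : Set G) := by
    refine ⟨hwR, mem_centralizer_singleton_iff.2 (mul_inv_eq_iff_eq_mul.1 ?_)⟩
    have h1 : g * (y * c * y⁻¹ * c⁻¹) * g⁻¹ = g * y * g⁻¹ * c * (g * y * g⁻¹)⁻¹ * c⁻¹ := by
      conv_rhs => rw [← hc']
      group
    rw [hfix _ (h.comm_cen hy hc), show g * y * g⁻¹ = y * w by rw [hw, mul_inv_cancel_left],
      h.comm_mul hc hy hwR] at h1
    exact mul_inv_eq_one.1 (left_eq_mul.1 h1)
  refine fix_of_shift hgo (w := w) ?_ (hA w hwA) (h.pow_four hwR)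
  rw [hw, mul_inv_cancel_left]

theorem of_equiv {H : Type*} [Group H] {R : Subgroup H} {S : Subgroup G} (e : ↥R ≃* ↥S) (h : UFour S) :
    UFour R := by
  have hc : ∀ x : R, (x : H) ∈ cenOf R ↔ ((e x : S) : G) ∈ cenOf S := fun x => by
    rw [mem_cenOf, mem_cenOf]
    refine ⟨fun h => ⟨(e x).2, fun y hy => ?_⟩, fun h => ⟨x.2, fun y hy => ?_⟩⟩
    · have h1 := congrArg e (Subtype.ext (h.2 _ (e.symm ⟨y, hy⟩).2) :
        e.symm ⟨y, hy⟩ * x = x * e.symm ⟨y, hy⟩)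
      rw [map_mul, map_mul, e.apply_symm_apply] at h1
      exact congrArg Subtype.val h1
    · have h1 : e ⟨y, hy⟩ * e x = e x * e ⟨y, hy⟩ := Subtype.ext (h.2 _ (e ⟨y, hy⟩).2)
      rw [← map_mul, ← map_mul] at h1
      exact congrArg Subtype.val (e.injective h1)
  have hval : ∀ a b : R, (a : H) = b ↔ ((e a : S) : G) = (e b : G) := fun a b => by
    rw [SetLike.coe_eq_coe, SetLike.coe_eq_coe, e.injective.eq_iff]
  have hmul : ∀ a b : R, ((e (a * b) : S) : G) = (e a : G) * (e b : G) := fun a b => by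
    rw [map_mul]; rfl
  refine ⟨fun x hx => ?_, fun x hx => ?_, fun x hx hxc z hz => ?_, fun x hx y hy w hw hyc h1 h2 => ?_, ?_, ?_⟩
  · rw [hc ⟨x, hx⟩, ← h.cen_iff _ (e ⟨x, hx⟩).2, ← hmul]
    refine Iff.trans (hval (⟨x, hx⟩ * ⟨x, hx⟩) 1) ?_
    rw [map_one]; rfl
  · exact (hc (⟨x, hx⟩ * ⟨x, hx⟩)).2 (by rw [hmul]; exact h.sq_cen _ (e ⟨x, hx⟩).2)
  · obtain ⟨y, hy, h1, h2⟩ := h.sqr _ (e ⟨x, hx⟩).2 (fun e' => hxc ((hc ⟨x, hx⟩).2 e'))
      _ ((hc ⟨z, hz.1⟩).1 hz)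
    refine ⟨e.symm ⟨y, hy⟩, (e.symm ⟨y, hy⟩).2,
      (hval (⟨x, hx⟩ * e.symm ⟨y, hy⟩) (e.symm ⟨y, hy⟩ * ⟨x, hx⟩)).2 ?_,
      (hval (e.symm ⟨y, hy⟩ * e.symm ⟨y, hy⟩) ⟨z, hz.1⟩).2 ?_⟩
    · rw [hmul, hmul, e.apply_symm_apply]; exact h1
    · rw [hmul, e.apply_symm_apply]; exact h2
  · refine (hval (⟨x, hx⟩ * ⟨w, hw⟩) (⟨w, hw⟩ * ⟨x, hx⟩)).2 ?_
    rw [hmul, hmul]
    refine h.trans _ (e ⟨x, hx⟩).2 _ (e ⟨y, hy⟩).2 _ (e ⟨w, hw⟩).2
      (fun e' => hyc ((hc ⟨y, hy⟩).2 e')) ?_ ?_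
    · rw [← hmul, ← hmul]; exact (hval _ _).1 h1
    · rw [← hmul, ← hmul]; exact (hval _ _).1 h2
  · rw [← h.card_cen]
    exact Nat.card_congr
      { toFun := fun z => ⟨_, (hc ⟨z, z.2.1⟩).1 z.2⟩
        invFun := fun z => ⟨(e.symm ⟨z, z.2.1⟩ : H), (hc _).2 (by rw [e.apply_symm_apply]; exact z.2)⟩
        left_inv := fun z => Subtype.ext (by simp)
        right_inv := fun z => Subtype.ext (by simp) }
  · rw [← h.card_all]
    exact Nat.card_congr e.toEquiv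

end UFour

end Cfsg.Lib.Lyons
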