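/-
A Sylow 2-subgroup of type `U₃(4)` with central centre is normal modulo the odd core.
-/
import Cfsg.Agent.Lyons.Local.UFour
import Cfsg.Agent.BenderSE.Final

set_option autoImplicit false
set_option linter.unusedSectionVars false
set_option linter.style.haveILetI false

namespace Cfsg.Lib.Lyons

open Subgroup Cfsg.Lib.InvolCalc Cfsg.Lib.StrongEmb Cfsg.Lib.BenderSE Cfsg.Lib.BenderSE.Ring2

universe u

variable {G : Type u} [Group G] [Finite G]

/-- `Z(S)` central in `G`, `O(G) = 1`: `S` is normal -/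
theorem normal_of_central (reg : RegProp.{u}) (S : Sylow 2 G) (h : UFour (S : Subgroup G))
    (hO : Cfsg.oddCore G = ⊥) (hZc : cenOf (S : Subgroup G) ≤ center G) : (S : Subgroup G).Normal := by
  haveI : Fact (Nat.Prime 2) := ⟨Nat.prime_two⟩
  set R := (S : Subgroup G) with hR
  set Z := cenOf R with hZdef
  have hZS : Z ≤ R := fun z hz => hz.1
  haveI : Z.Normal := ⟨fun z hz g => by
    rw [mem_center_iff.1 (hZc hz) g, mul_inv_cancel_right]; exact hz⟩
  set π := QuotientGroup.mk' Z with hπ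
  have hsurj : Function.Surjective π := QuotientGroup.mk'_surjective Z
  set V := S.mapSurjective hsurj with hV
  have hOX : Cfsg.oddCore (G ⧸ Z) = ⊥ := oddCore_quot_bot hO S Z hZS hZc
  have hmemV : ∀ x, x ∈ R → π x ∈ (V : Subgroup (G ⧸ Z)) := fun x hx => by
    rw [hV, Sylow.coe_mapSurjective]; exact mem_map_of_mem _ hx
  have hVmem : ∀ y ∈ (V : Subgroup (G ⧸ Z)), ∃ x ∈ R, π x = y := fun y hy => by
    rw [hV, Sylow.coe_mapSurjective] at hy; exact hy
  have hpre : ∀ g, π g ∈ (V : Subgroup (G ⧸ Z)) → g ∈ R := by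
    intro g hg
    obtain ⟨x, hx, he⟩ := hVmem _ hg
    have h1 : x⁻¹ * g ∈ Z := QuotientGroup.eq.1 he
    simpa using mul_mem hx (hZS h1)
  have hVab : ∀ x ∈ (V : Subgroup (G ⧸ Z)), ∀ y ∈ (V : Subgroup (G ⧸ Z)), x * y = y * x := by
    intro x hx y hy
    obtain ⟨a, ha, rfl⟩ := hVmem x hx
    obtain ⟨b, hb, rfl⟩ := hVmem y hy
    have h1 := h.comm_cen ha hb
    have h2 : π (a * b * a⁻¹ * b⁻¹) = 1 := (QuotientGroup.eq_one_iff _).2 h1
    rw [map_mul, map_mul, map_mul, map_inv, map_inv, mul_inv_eq_one, mul_inv_eq_iff_eq_mul] at h2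
    exact h2
  have hV2 : ∀ x ∈ (V : Subgroup (G ⧸ Z)), x ^ 2 = 1 := by
    intro x hx
    obtain ⟨a, ha, rfl⟩ := hVmem x hx
    rw [pow_two, ← map_mul]
    exact (QuotientGroup.eq_one_iff _).2 (h.sq_cen a ha)
  have hVcard : 8 ≤ Nat.card V := by
    have h1 : Nat.card R = Nat.card V * Nat.card Z := by
      have e : V.1 = R.map π := Sylow.coe_mapSurjective _ _
      show _ = Nat.card V.1 * _
      rw [e, ← relIndex_bot_left (R.map π), ← relIndex_comap, MonoidHom.comap_bot,
        QuotientGroup.ker_mk']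
      exact (mul_comm _ _).trans (by
        rw [← relIndex_bot_left Z, relIndex_mul_relIndex _ _ _ bot_le hZS, relIndex_bot_left]) |>.symm
    rw [h.card_all, h.card_cen] at h1
    omega
  have hVel : IsMulCommutative (V : Subgroup (G ⧸ Z)) := ⟨⟨fun a b => Subtype.ext (hVab a a.2 b b.2)⟩⟩
  have h3 : ¬ Cfsg.PRankLE 2 2 (G ⧸ Z) := fun hle => by
    have h1 := hle _ hVel hV2
    have : Nat.card V ≤ 4 := h1
    omega
  have hconn : Cfsg.IsFourConnected (V : Subgroup (G ⧸ Z)) :=
    Cfsg.Lib.Misc.FourConnected.connected_of_normal V.2 ⊤ ⟨⟨fun a b => Subtype.ext (Subtype.ext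
      (hVab _ (a : (V : Subgroup (G ⧸ Z))).2 _ (b : (V : Subgroup (G ⧸ Z))).2))⟩⟩
      (fun e _ => Subtype.ext (hV2 _ e.2)) (by rw [card_top]; exact hVcard)
  have hVcent : ∀ t ∈ (V : Subgroup (G ⧸ Z)), orderOf t = 2 →
      (V : Subgroup (G ⧸ Z)) ≤ centralizer ({t} : Set (G ⧸ Z)) := fun t ht _ x hx =>
    mem_centralizer_singleton_iff.2 (hVab x hx t ht)
  -- the centralisers of involutions are 2-nilpotent
  have hsol : ∀ t : G ⧸ Z, orderOf t = 2 → Group.IsSolvable (centralizer ({t} : Set (G ⧸ Z))) := by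
    refine solvable_centralizers V fun v hv hvo => ?_
    set C := centralizer ({v} : Set (G ⧸ Z)) with hC
    set T := V.subtype (hVcent v hv hvo) with hT
    obtain ⟨c, hc, hcv⟩ := hVmem v hv
    have hcZ : c ∉ Z := fun e => by
      rw [← hcv, show π c = 1 from (QuotientGroup.eq_one_iff c).2 e, orderOf_one] at hvo
      omega
    have hcen : normalizer ((T : Subgroup C) : Set C) ≤ centralizer ((T : Subgroup C) : Set C) := by
      rintro ⟨y, hyC⟩ hy
      refine mem_centralizer_iff.2 fun w hw => Subtype.ext ?_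
      have hw' : (w : G ⧸ Z) ∈ (V : Subgroup (G ⧸ Z)) := hw
      show (w : G ⧸ Z) * y = y * w
      have hyN : ∀ x ∈ (V : Subgroup (G ⧸ Z)), y * x * y⁻¹ ∈ (V : Subgroup (G ⧸ Z)) := fun x hx =>
        (mem_normalizer_iff.1 hy (⟨x, hVcent v hv hvo hx⟩ : C)).1 hx
      obtain ⟨g, rfl⟩ := hsurj y
      have hgR : ∀ x ∈ R, g * x * g⁻¹ ∈ R := fun x hx => hpre _ (by
        rw [map_mul, map_mul, map_inv]; exact hyN _ (hmemV x hx))
      -- split off the 2-part
      obtain ⟨k, m, hm, hkm⟩ : ∃ k m : ℕ, Odd m ∧ orderOf g = 2 ^ k * m := by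
        obtain ⟨k, m, hm, e⟩ := Nat.exists_eq_two_pow_mul_odd (orderOf_pos g).ne'
        exact ⟨k, m, hm, e⟩
      have hpowR : ∀ (j : ℕ), ∀ x ∈ R, g ^ j * x * (g ^ j)⁻¹ ∈ R := by
        intro j
        induction j with
        | zero => intro x hx; simpa using hx
        | succ j ih =>
          intro x hx
          rw [pow_succ', show g * g ^ j * x * (g * g ^ j)⁻¹ = g * (g ^ j * x * (g ^ j)⁻¹) * g⁻¹ by group]
          exact hgR _ (ih x hx)
      -- the odd part
      have h1 : ∀ x ∈ R, g ^ 2 ^ k * x * (g ^ 2 ^ k)⁻¹ * x⁻¹ ∈ Z := by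
        intro y hy
        rw [h.semifree (g := g ^ 2 ^ k) (c := c) ?_ (hpowR _)
          (fun z hz => mem_center_iff.1 (hZc hz) _) hc hcZ ?_ y hy, mul_inv_cancel]
        exact one_mem _
        · rw [orderOf_pow, hkm, Nat.gcd_mul_right_left, Nat.mul_div_cancel_left _ (pow_pos two_pos k)]
          exact hm
        · rw [← QuotientGroup.eq_one_iff]
          show π _ = 1
          rw [map_mul, map_mul, map_mul, map_inv, map_inv, map_pow, hcv, mul_inv_eq_one, mul_inv_eq_iff_eq_mul]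
          exact (Commute.pow_left (show Commute (π g) v from mem_centralizer_singleton_iff.1 hyC) _).eq
      -- the 2-part lies in `R`
      have h2 : g ^ m ∈ R := by
        have hP : IsPGroup 2 ↥(zpowers (g ^ m) ⊔ R) := by
          refine IsPGroup.to_sup_of_normal_right' (IsPGroup.of_card (n := k) ?_) S.2 ?_
          · rw [Nat.card_zpowers, orderOf_pow, hkm, Nat.gcd_mul_left_left,
              Nat.mul_div_cancel _ hm.pos]
          · rw [zpowers_le]
            refine mem_normalizer_of_maps_to fun x hx => hpowR m x hx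
        exact (S.3 hP le_sup_right).le (mem_sup_left (mem_zpowers _))
      obtain ⟨x, hx, hxw⟩ := hVmem _ hw'
      have h1' : Commute (π (g ^ 2 ^ k)) (π x) := by
        have e : π (g ^ 2 ^ k * x * (g ^ 2 ^ k)⁻¹ * x⁻¹) = 1 := (QuotientGroup.eq_one_iff _).2 (h1 x hx)
        rw [map_mul, map_mul, map_mul, map_inv, map_inv, mul_inv_eq_one, mul_inv_eq_iff_eq_mul] at e
        exact e
      have h2' : Commute (π (g ^ m)) (π x) := hVab _ (hmemV _ h2) _ (hmemV _ hx)
      rw [← hxw]
      refine (show Commute (π g) (π x) from ?_).symm.eq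
      obtain ⟨a, b, hab⟩ : ∃ a b : ℤ, a * (2 ^ k : ℕ) + b * m = 1 := by
        have hco : Nat.Coprime (2 ^ k) m := (Nat.coprime_two_left.2 hm).pow_left k
        exact Nat.isCoprime_iff_coprime.2 hco
      have e : π g = π (g ^ 2 ^ k) ^ a * π (g ^ m) ^ b := by
        rw [← map_zpow, ← map_zpow, ← map_mul, ← zpow_natCast g (2 ^ k), ← zpow_natCast g m, ← zpow_mul,
          ← zpow_mul, ← zpow_add, mul_comm _ a, mul_comm _ b, hab, zpow_one]
      rw [e]
      exact (h1'.zpow_left a).mul_left (h2'.zpow_left b)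
    have hcomp := MonoidHom.ker_transferSylow_isComplement' T hcen
    set K := (MonoidHom.transferSylow T hcen).ker
    have hKodd : Odd (Nat.card K) := by
      have h1 := hcomp.card_mul
      rw [Nat.eq_of_mul_eq_mul_right Nat.card_pos (h1.trans ((T : Subgroup C).index_mul_card).symm),
        ← Nat.not_even_iff_odd, even_iff_two_dvd]
      exact T.not_dvd_index
    refine solvable_of_quot K (Cfsg.Agent.PF.isSolvable_of_odd _ hKodd) ?_
    refine Group.isSolvable_of_comm fun a b => ?_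
    obtain ⟨a', rfl⟩ := QuotientGroup.mk_surjective a
    obtain ⟨b', rfl⟩ := QuotientGroup.mk_surjective b
    rw [← QuotientGroup.mk_mul, ← QuotientGroup.mk_mul, QuotientGroup.eq, MonoidHom.mem_ker]
    simp only [map_mul, map_inv]
    have hab := fun (x y : (T : Subgroup C)) => (Subtype.ext (Subtype.ext
        (hVab _ (show ((x : C) : G ⧸ Z) ∈ _ from x.2) _ (show ((y : C) : G ⧸ Z) ∈ _ from y.2))) : x * y = y * x)
    rw [hab (MonoidHom.transferSylow T hcen a') (MonoidHom.transferSylow T hcen b'), inv_mul_cancel]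
  -- the normaliser of `V`
  have hNC : ∀ t ∈ (V : Subgroup (G ⧸ Z)), orderOf t = 2 →
      centralizer ({t} : Set (G ⧸ Z)) ≤ normalizer ((V : Subgroup (G ⧸ Z)) : Set (G ⧸ Z)) :=
    fun t htV ht => le_normalizer_of_charTwo_abelian (charTwo_centralizer reg hOX h3 V hconn hsol ht) V
      (hVcent t htV ht) hVab
  have heven : Even (Nat.card (G ⧸ Z)) := by
    obtain ⟨j, hj⟩ := IsPGroup.iff_card.1 V.2
    refine even_iff_two_dvd.2 (dvd_trans ?_ (card_subgroup_dvd_card (V : Subgroup (G ⧸ Z))))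
    show 2 ∣ Nat.card V
    rw [hj]
    refine dvd_pow_self 2 fun e => ?_
    rw [hj, e] at hVcard
    omega
  rcases normal_or_embedded V le_normalizer heven hNC
      (fun t ht s hs _ g hg => fusion_abelian V hVab ht hs hg) with hN | hN
  · have hVn : (V : Subgroup (G ⧸ Z)).Normal := normalizer_eq_top_iff.1 hN
    exact ⟨fun x hx g => hpre _ (by rw [map_mul, map_mul, map_inv]; exact hVn.conj_mem _ (hmemV x hx) (π g))⟩
  exfalso
  -- every noncentral element has the same square
  have hsq : ∀ x ∈ R, x ∉ Z → ∀ y ∈ R, y ∉ Z → x * x = y * y := by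
    intro x hx hxZ y hy hyZ
    have ho : ∀ w ∈ R, w ∉ Z → orderOf (π w) = 2 := fun w hw hwZ =>
      order_two_of_mul_self (by rw [← pow_two]; exact hV2 _ (hmemV w hw))
        fun e => hwZ ((QuotientGroup.eq_one_iff w).1 e)
    obtain ⟨g, hg⟩ := isConj_iff.1 (all_conj hN (ho x hx hxZ) (ho y hy hyZ))
    obtain ⟨g', rfl⟩ := hsurj g
    have h1 : π (g' * x * g'⁻¹) = π y := by rw [map_mul, map_mul, map_inv, hg]
    have hz : (g' * x * g'⁻¹)⁻¹ * y ∈ Z := QuotientGroup.eq.1 h1
    set z := (g' * x * g'⁻¹)⁻¹ * y with hzdef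
    have hy' : y = g' * x * g'⁻¹ * z := by rw [hzdef, mul_inv_cancel_left]
    have hc : ∀ w, w * z = z * w := mem_center_iff.1 (hZc hz)
    calc x * x = g' * (x * x) * g'⁻¹ := by
          rw [mem_center_iff.1 (hZc (h.sq_cen x hx)) g', mul_inv_cancel_right]
      _ = g' * x * g'⁻¹ * (g' * x * g'⁻¹) * (z * z) := by
          rw [(h.cen_iff z (hZS hz)).2 hz, mul_one]; group
      _ = g' * x * g'⁻¹ * z * (g' * x * g'⁻¹ * z) := by
          rw [show g' * x * g'⁻¹ * z * (g' * x * g'⁻¹ * z) = g' * x * g'⁻¹ * (z * (g' * x * g'⁻¹)) * z by group,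
            ← hc (g' * x * g'⁻¹)]
          group
      _ = y * y := by rw [← hy']
  obtain ⟨x, hx, hxZ⟩ : ∃ x ∈ R, x ∉ Z := by
    by_contra h0
    push Not at h0
    have h1 := card_dvd_of_le (show R ≤ Z from h0)
    rw [h.card_all, h.card_cen] at h1
    exact absurd h1 (by norm_num)
  obtain ⟨z, hz, hz1, hzx⟩ : ∃ z ∈ Z, z ≠ 1 ∧ z ≠ x * x := by
    classical
    haveI := Fintype.ofFinite Z
    by_contra h0
    push Not at h0
    have h1 : Nat.card Z ≤ 2 := by
      rw [Nat.card_eq_fintype_card]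
      refine (Finset.card_le_card (t := ({1, ⟨x * x, h.sq_cen x hx⟩} : Finset Z)) fun w _ => ?_).trans
        Finset.card_le_two
      by_cases hw : (w : G) = 1
      · simp [Subtype.ext_iff, hw]
      · simp [Subtype.ext_iff, h0 w w.2 hw]
    rw [h.card_cen] at h1
    omega
  obtain ⟨y, hy, -, hyy⟩ := h.sqr x hx hxZ z hz
  exact hzx (by
    rw [← hyy]
    refine (hsq x hx hxZ y hy fun e => hz1 ?_).symm
    rw [← hyy]
    exact (h.cen_iff y hy).2 e)

end Cfsg.Lib.Lyons
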