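/-
The centraliser of a central involution of a Sylow 2-subgroup of type `U₃(4)`.
-/
import Cfsg.Agent.Lyons.Local.Central
import Cfsg.Agent.InvolCalc.ZStarApps
import Cfsg.Agent.InvolCalc.Classes

set_option autoImplicit false
set_option linter.unusedSectionVars false
set_option linter.style.haveILetI false

namespace Cfsg.Lib.Lyons

open Subgroup Cfsg.Lib.InvolCalc Cfsg.Lib.StrongEmb Cfsg.Lib.BenderSE Cfsg.Lib.BenderSE.Ring2

universe u

variable {G : Type u} [Group G] [Finite G]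

theorem odd_core (H : Subgroup G) : Odd (Nat.card (GW.Core H)) := by
  rw [GW.Core, card_map_of_injective H.subtype_injective]
  exact odd_oddCore

theorem conj_mem_core {H : Subgroup G} {g u : G} (hg : g ∈ H) (hu : u ∈ GW.Core H) :
    g * u * g⁻¹ ∈ GW.Core H := by
  obtain ⟨v, hv, rfl⟩ := hu
  exact ⟨(⟨g, hg⟩ : H) * v * (⟨g, hg⟩ : H)⁻¹,
    (inferInstance : (Cfsg.oddCore H).Normal).conj_mem v hv _, rfl⟩

/-- some odd power of an element of the normaliser lies in the Sylow subgroup -/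
theorem exists_odd_pow_mem (S : Sylow 2 G) {n : G} (hn : n ∈ normalizer ((S : Subgroup G) : Set G)) :
    ∃ m, Odd m ∧ n ^ m ∈ (S : Subgroup G) := by
  haveI : Fact (Nat.Prime 2) := ⟨Nat.prime_two⟩
  obtain ⟨k, m, hm, e⟩ := Nat.exists_eq_two_pow_mul_odd (orderOf_pos n).ne'
  refine ⟨m, hm, ?_⟩
  have hP : IsPGroup 2 ↥(zpowers (n ^ m) ⊔ (S : Subgroup G)) := by
    refine IsPGroup.to_sup_of_normal_right' (IsPGroup.of_card (n := k) ?_) S.2 ?_
    · rw [Nat.card_zpowers, orderOf_pow, e, Nat.gcd_mul_left_left, Nat.mul_div_cancel _ hm.pos]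
    · rw [zpowers_le]
      exact pow_mem hn m
  exact (S.3 hP le_sup_right).le (mem_sup_left (mem_zpowers _))

theorem conj_mem_cen {S : Sylow 2 G} {n z : G} (hn : n ∈ normalizer ((S : Subgroup G) : Set G))
    (hz : z ∈ cenOf (S : Subgroup G)) : n * z * n⁻¹ ∈ cenOf (S : Subgroup G) :=
  (mem_normalizer_iff.1 (normalizer_le_normalizer_cenOf _ hn) z).1 hz

theorem UFour.cen_cases {R : Subgroup G} (h : UFour R) {z w v : G} (hz : z ∈ cenOf R) (hw : w ∈ cenOf R)
    (hz1 : z ≠ 1) (hw1 : w ≠ 1) (hzw : z ≠ w) (hv : v ∈ cenOf R) :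
    v = 1 ∨ v = z ∨ v = w ∨ v = z * w := by
  classical
  by_contra hcon
  simp only [not_or] at hcon
  obtain ⟨h1, h2, h3, h4⟩ := hcon
  have h5 : z * w ≠ 1 := fun e => hzw (by rw [eq_inv_of_mul_eq_one_left e, h.cen_inv hw])
  have h6 : z * w ≠ z := fun e => hw1 (mul_eq_left.1 e)
  have h7 : z * w ≠ w := fun e => hz1 (mul_eq_right.1 e)
  haveI := Fintype.ofFinite (cenOf R)
  let s : Finset (cenOf R) := {1, ⟨z, hz⟩, ⟨w, hw⟩, ⟨z * w, mul_mem hz hw⟩, ⟨v, hv⟩}
  have hs : s.card = 5 := by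
    simp [s, Subtype.ext_iff, hz1.symm, hw1.symm, h5.symm, Ne.symm h1, hzw, h6.symm, Ne.symm h2,
      h7.symm, Ne.symm h3, Ne.symm h4]
  have := s.card_le_univ
  rw [hs, ← Nat.card_eq_fintype_card, h.card_cen] at this
  omega

/-- normalising `S` and fixing one involution, one centralises the centre -/
theorem cen_fix (S : Sylow 2 G) (h : UFour (S : Subgroup G)) {n z : G}
    (hn : n ∈ normalizer ((S : Subgroup G) : Set G)) (hz : z ∈ cenOf (S : Subgroup G)) (hz1 : z ≠ 1)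
    (hnz : n * z * n⁻¹ = z) : ∀ w ∈ cenOf (S : Subgroup G), n * w * n⁻¹ = w := by
  intro w hw
  by_cases hw1 : w = 1
  · rw [hw1]; group
  by_cases hwz : w = z
  · rw [hwz, hnz]
  rcases h.cen_cases hz hw hz1 hw1 (Ne.symm hwz) (conj_mem_cen hn hw) with e | e | e | e
  · exact absurd (conj_eq_one_iff.1 e) hw1
  · exact absurd (mul_left_cancel (mul_right_cancel (e.trans hnz.symm))) hwz
  · exact e
  exfalso
  have hzw : z * w ≠ w := fun e' => hz1 (mul_eq_right.1 e')
  have hnzw : n * (z * w) * n⁻¹ = w := by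
    calc n * (z * w) * n⁻¹ = n * z * n⁻¹ * (n * w * n⁻¹) := by group
      _ = w := by rw [hnz, e, ← mul_assoc, h.cen_sq hz, one_mul]
  have hpow : ∀ j : ℕ, n ^ (2 * j) * w * (n ^ (2 * j))⁻¹ = w := by
    intro j
    induction j with
    | zero => simp
    | succ j ih =>
      rw [show 2 * (j + 1) = 2 + 2 * j by ring, pow_add,
        show n ^ 2 * n ^ (2 * j) * w * (n ^ 2 * n ^ (2 * j))⁻¹
          = n ^ 2 * (n ^ (2 * j) * w * (n ^ (2 * j))⁻¹) * (n ^ 2)⁻¹ by group, ih,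
        show n ^ 2 * w * (n ^ 2)⁻¹ = n * (n * w * n⁻¹) * n⁻¹ by rw [pow_two]; group, e, hnzw]
  obtain ⟨m, ⟨j, rfl⟩, hmS⟩ := exists_odd_pow_mem S hn
  apply hzw
  have h1 : n ^ (2 * j + 1) * w * (n ^ (2 * j + 1))⁻¹ = w :=
    mul_inv_eq_iff_eq_mul.2 (cenOf_comm hw hmS)
  rw [pow_succ', show n * n ^ (2 * j) * w * (n * n ^ (2 * j))⁻¹
    = n * (n ^ (2 * j) * w * (n ^ (2 * j))⁻¹) * n⁻¹ by group, hpow, e] at h1
  exact h1

variable (S : Sylow 2 G) (h : UFour (S : Subgroup G)) {z : G} (hz : z ∈ cenOf (S : Subgroup G))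
  (hz1 : z ≠ 1)

include h hz hz1

/-- the centre is central modulo the odd core -/
theorem cen_central_quot (hSC : (S : Subgroup G) ≤ centralizer ({z} : Set G)) :
    ∀ w : centralizer ({z} : Set G), (w : G) ∈ cenOf (S : Subgroup G) →
    (w : centralizer ({z} : Set G) ⧸ Cfsg.oddCore (centralizer ({z} : Set G))) ∈ center _ := by
  haveI : Fact (Nat.Prime 2) := ⟨Nat.prime_two⟩
  set C := centralizer ({z} : Set G) with hC
  intro w hw
  by_cases hw1 : w = 1
  · rw [hw1, QuotientGroup.mk_one]; exact one_mem _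
  set T := S.subtype hSC
  have hwG : (w : G) ≠ 1 := fun e => hw1 (Subtype.ext e)
  have hord : orderOf w = 2 := by rw [← orderOf_coe]; exact h.orderOf_eq_two hw hwG
  have hiso : Cfsg.IsIsolatedInvolution w := by
    refine ⟨hord, fun g hg => isolated_of_unique T hord (fun g hg => ?_) hg⟩
    have hgS : ((g * w * g⁻¹ : C) : G) ∈ (S : Subgroup G) := hg
    have hgW : ((g * w * g⁻¹ : C) : G) ∈ cenOf (S : Subgroup G) := h.mem_cen_of_sq hgS (by
      rw [← SubgroupClass.coe_pow, conj_pow, ← hord, pow_orderOf_eq_one, mul_one, mul_inv_cancel, OneMemClass.coe_one])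
    have hn : ∀ u : C, (u : G) ∈ cenOf (S : Subgroup G) →
        (T : Subgroup C) ≤ normalizer ({u} : Set C) := fun u hu y hy => by
      refine Subgroup.mem_set_normalizer_iff.2 fun v => ?_
      simp only [Set.mem_singleton_iff]
      have hyu : y * u = u * y := Subtype.ext (cenOf_comm hu hy)
      rw [mul_inv_eq_iff_eq_mul, ← hyu, mul_right_inj]
    obtain ⟨n, hn', he⟩ := Cfsg.Lib.Transfer.burnside_fusion_set T {w} {g * w * g⁻¹} (hn _ hw) (hn _ hgW) g
      (by simp only [Set.image_singleton])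
    simp only [Set.image_singleton, Set.singleton_eq_singleton_iff] at he
    have hnG : (n : G) ∈ normalizer ((S : Subgroup G) : Set G) :=
      mem_normalizer_of_maps_to fun x hx => (mem_normalizer_iff.1 hn' ⟨x, hSC hx⟩).1 hx
    rw [← he]
    exact Subtype.ext (cen_fix S h hnG hz hz1
      (mul_inv_eq_iff_eq_mul.2 (mem_centralizer_singleton_iff.1 n.2)) _ hw)
  refine mem_center_iff.2 fun y => ?_
  obtain ⟨g, rfl⟩ := QuotientGroup.mk_surjective y
  rw [← QuotientGroup.mk_mul, ← QuotientGroup.mk_mul, QuotientGroup.eq]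
  have hcore : ∀ g : C, w * g * w⁻¹ * g⁻¹ ∈ Cfsg.oddCore C := ZStarApps.zstarProp hiso
  have h1 := hcore g⁻¹
  have hwi : w⁻¹ = w := inv_eq_of_mul_eq_one_right (Subtype.ext (h.cen_sq hw))
  rw [show (g * w)⁻¹ * (w * g) = w⁻¹ * g⁻¹ * w * g by group]
  rw [hwi, inv_inv] at h1
  rw [hwi]
  exact h1

/-- `C(z) = O N(S)`, and the odd elements of `C(z)` centralising `S` lie in `O` -/
theorem centralizer_structure :
    (∀ c ∈ centralizer ({z} : Set G), ∃ o ∈ GW.Core (centralizer ({z} : Set G)),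
      ∃ n ∈ normalizer ((S : Subgroup G) : Set G), n * z * n⁻¹ = z ∧ c = o * n) ∧
    ∀ x : G, Odd (orderOf x) → (∀ s ∈ (S : Subgroup G), x * s * x⁻¹ = s) →
      x ∈ GW.Core (centralizer ({z} : Set G)) := by
  haveI : Fact (Nat.Prime 2) := ⟨Nat.prime_two⟩
  set C := centralizer ({z} : Set G) with hC
  have hSC : (S : Subgroup G) ≤ C := fun x hx => mem_centralizer_singleton_iff.2 (cenOf_comm hz hx)
  set O := Cfsg.oddCore C with hO
  set π := QuotientGroup.mk' O with hπ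
  have hsurj : Function.Surjective π := QuotientGroup.mk'_surjective O
  set T0 := S.subtype hSC with hT0
  set T := T0.mapSurjective hsurj with hT
  have hinj : Function.Injective (π.subgroupMap (T0 : Subgroup C)) := by
    refine (injective_iff_map_eq_one _).2 fun x hx => Subtype.ext ?_
    exact eq_one_of_mem_odd T0 O odd_oddCore x.2 ((QuotientGroup.eq_one_iff _).1 (congrArg Subtype.val hx))
  let e0 : ↥(T0 : Subgroup C) ≃* ↥((T0 : Subgroup C).map π) :=
    MulEquiv.ofBijective _ ⟨hinj, π.subgroupMap_surjective _⟩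
  have hT0u : UFour (T0 : Subgroup C) := UFour.of_equiv (subgroupOfEquivOfLe hSC) h
  have hTu : UFour (T : Subgroup (C ⧸ O)) := by
    rw [hT, Sylow.coe_mapSurjective]; exact UFour.of_equiv e0.symm hT0u
  have hmemT : ∀ x : C, x ∈ (T0 : Subgroup C) → π x ∈ (T : Subgroup (C ⧸ O)) := fun x hx => by
    rw [hT, Sylow.coe_mapSurjective]; exact mem_map_of_mem _ hx
  have hTmem : ∀ y ∈ (T : Subgroup (C ⧸ O)), ∃ x ∈ (T0 : Subgroup C), π x = y := fun y hy => by
    rw [hT, Sylow.coe_mapSurjective] at hy; exact hy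
  have hcen : cenOf (T : Subgroup (C ⧸ O)) ≤ center (C ⧸ O) := by
    intro y hy
    obtain ⟨x, hx, rfl⟩ := hTmem y hy.1
    refine cen_central_quot S h hz hz1 hSC x (h.mem_cen_of_sq hx ?_)
    have h1 : π (x * x) = 1 := by rw [map_mul]; exact hTu.cen_sq hy
    rw [pow_two]
    exact congrArg Subtype.val ((pow_eq_one_iff_quot T0 O odd_oddCore (mul_mem hx hx)).1 h1)
  have hTn : (T : Subgroup (C ⧸ O)).Normal := normal_of_central regProp T hTu oddCore_eq_bot_quot hcen
  refine ⟨fun c hc => ?_, fun x hx hxS => ?_⟩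
  · -- the Frattini argument
    set P := (T : Subgroup (C ⧸ O)).comap π with hP
    haveI := hTn
    haveI : P.Normal := inferInstance
    have h0 : (T0 : Subgroup C) ≤ P := fun x hx => hmemT x hx
    have h2 : (((⟨c, hc⟩ : C) • T0 : Sylow 2 C) : Subgroup C) ≤ P := by
      rintro _ ⟨x, hx, rfl⟩
      exact (inferInstance : P.Normal).conj_mem x (h0 hx) _
    obtain ⟨p, hp⟩ := MulAction.exists_smul_eq P (((⟨c, hc⟩ : C) • T0).subtype h2) (T0.subtype h0)
    obtain ⟨s, hs, hsp⟩ := hTmem _ p.2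
    have ho : (p : C) * s⁻¹ ∈ O := by
      rw [← QuotientGroup.eq_one_iff]
      show π _ = 1
      rw [map_mul, map_inv, hsp, mul_inv_cancel]
    set n : C := (p : C) * ⟨c, hc⟩ with hn
    have hnN : (n : G) ∈ normalizer ((S : Subgroup G) : Set G) := by
      refine mem_normalizer_of_maps_to fun x hx => ?_
      have hm : (⟨c, hc⟩ : C) * ⟨x, hSC hx⟩ * (⟨c, hc⟩ : C)⁻¹ ∈ (((⟨c, hc⟩ : C) • T0 : Sylow 2 C) : Subgroup C) :=
        ⟨⟨x, hSC hx⟩, hx, rfl⟩
      have h3 : p * (⟨_, h2 hm⟩ : P) * p⁻¹ ∈ (T0.subtype h0 : Sylow 2 P) := by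
        rw [← hp]
        exact ⟨_, hm, rfl⟩
      have h4 : (((p : C) * ((⟨c, hc⟩ : C) * ⟨x, hSC hx⟩ * (⟨c, hc⟩ : C)⁻¹) * (p : C)⁻¹ : C) : G)
          ∈ (S : Subgroup G) := h3
      rw [hn]
      simpa [mul_assoc] using h4
    have hsS : (s : G) ∈ (S : Subgroup G) := hs
    refine ⟨((s⁻¹ * ((p : C) * s⁻¹)⁻¹ * s : C) : G), ⟨s⁻¹ * ((p : C) * s⁻¹)⁻¹ * s, ?_, rfl⟩, (s : G)⁻¹ * n,
      mul_mem (inv_mem (le_normalizer hsS)) hnN, ?_, ?_⟩
    · simpa using (inferInstance : O.Normal).conj_mem _ (inv_mem ho) s⁻¹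
    · exact mul_inv_eq_iff_eq_mul.2 (mem_centralizer_singleton_iff.1 (C.mul_mem (C.inv_mem (hSC hsS)) n.2))
    · rw [hn]
      simp only [Subgroup.coe_mul, Subgroup.coe_inv]
      group
  · -- centralising the Sylow subgroup
    have hxC : x ∈ C := mem_centralizer_singleton_iff.2 (mul_inv_eq_iff_eq_mul.1 (hxS z hz.1))
    set CT := centralizer ((T : Subgroup (C ⧸ O)) : Set (C ⧸ O)) with hCT
    set Z := cenOf (T : Subgroup (C ⧸ O)) with hZ
    haveI : Z.Normal := ⟨fun y hy g => by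
      rw [mem_center_iff.1 (hcen hy) g, mul_inv_cancel_right]; exact hy⟩
    haveI := hTn
    haveI : CT.Normal := inferInstance
    have hbot := oddCore_quot_bot oddCore_eq_bot_quot T Z (fun y hy => hy.1) hcen
    have hodd : Odd (Nat.card (CT.map (QuotientGroup.mk' Z))) := by
      have he : (T : Subgroup (C ⧸ O)) ⊓ CT = Z := rfl
      rw [← Subgroup.relIndex_bot_left, ← Subgroup.relIndex_comap, MonoidHom.comap_bot, QuotientGroup.ker_mk',
        ← he, inf_relIndex_right, ← Nat.not_even_iff_odd, even_iff_two_dvd]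
      exact fun h2 => T.not_dvd_index (h2.trans (relIndex_dvd_index_of_normal _ _))
    haveI : (CT.map (QuotientGroup.mk' Z)).Normal := Normal.map inferInstance _ (QuotientGroup.mk'_surjective Z)
    have hle : CT.map (QuotientGroup.mk' Z) ≤ ⊥ :=
      hbot ▸ Cfsg.Lib.Components.le_pPrimeCore (Nat.coprime_two_right.2 hodd)
    have hxT : π ⟨x, hxC⟩ ∈ CT := by
      refine mem_centralizer_iff.2 fun y hy => ?_
      obtain ⟨s, hs, rfl⟩ := hTmem y hy
      rw [← map_mul, ← map_mul]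
      refine congrArg π (Subtype.ext ?_)
      show (s : G) * x = x * s
      exact (mul_inv_eq_iff_eq_mul.1 (hxS s hs)).symm
    have h3 : π ⟨x, hxC⟩ ∈ Z :=
      (QuotientGroup.eq_one_iff _).1 ((mem_bot).1 (hle (mem_map_of_mem _ hxT)))
    refine ⟨⟨x, hxC⟩, (QuotientGroup.eq_one_iff _).1 (orderOf_eq_one_iff.1 ?_), rfl⟩
    refine Nat.eq_one_of_dvd_coprimes (Nat.coprime_two_left.2 hx) ?_ ?_
    · exact orderOf_dvd_of_pow_eq_one (show π ⟨x, hxC⟩ ^ 2 = 1 by rw [pow_two]; exact hTu.cen_sq h3)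
    · exact (orderOf_map_dvd π ⟨x, hxC⟩).trans (dvd_of_eq (orderOf_mk x hxC))


end Cfsg.Lib.Lyons
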