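/-
The normaliser of a Sylow 2-subgroup of type `U₃(4)`: an odd complement and its action on `S/Z(S)`.
-/
import Cfsg.Agent.Lyons.Local.Centralizer

set_option autoImplicit false
set_option linter.unusedSectionVars false
set_option linter.style.haveILetI false

namespace Cfsg.Lib.Lyons

open Subgroup Cfsg.Lib.InvolCalc Cfsg.Lib.StrongEmb Cfsg.Lib.BenderSE Cfsg.Lib.BenderSE.Ring2

universe u

variable {G : Type u} [Group G] [Finite G]

theorem odd_pow {k : G} (hk : Odd (orderOf k)) (i : ℕ) : Odd (orderOf (k ^ i)) :=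
  hk.of_dvd_nat (orderOf_pow_dvd i)

theorem mem_of_pow_coprime {H : Subgroup G} {g : G} {a b : ℕ} (hab : Nat.Coprime a b) (ha : g ^ a ∈ H)
    (hb : g ^ b ∈ H) : g ∈ H := by
  obtain ⟨x, y, hxy⟩ : ∃ x y : ℤ, x * a + y * b = 1 := Nat.isCoprime_iff_coprime.2 hab
  have e : g = (g ^ a) ^ x * (g ^ b) ^ y := by
    rw [← zpow_natCast g a, ← zpow_natCast g b, ← zpow_mul, ← zpow_mul, ← zpow_add, mul_comm _ x,
      mul_comm _ y, hxy, zpow_one]
  rw [e]
  exact mul_mem (zpow_mem ha _) (zpow_mem hb _)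

theorem mem_cent_iff {z k : G} : k ∈ centralizer ({z} : Set G) ↔ k * z * k⁻¹ = z :=
  mem_centralizer_singleton_iff.trans mul_inv_eq_iff_eq_mul.symm

/-- an odd element of the normaliser moving one involution permutes the three of them -/
theorem three_cycle (S : Sylow 2 G) (h : UFour (S : Subgroup G)) {z k : G}
    (hz : z ∈ cenOf (S : Subgroup G)) (hz1 : z ≠ 1) (hk : k ∈ normalizer ((S : Subgroup G) : Set G))
    (hodd : Odd (orderOf k)) (hmove : k ∉ centralizer ({z} : Set G)) :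
    k ^ 3 ∈ centralizer ({z} : Set G) ∧
      ∀ v ∈ cenOf (S : Subgroup G), v ≠ 1 → ∃ i : ℕ, v = k ^ i * z * (k ^ i)⁻¹ := by
  set a := k * z * k⁻¹ with ha
  set b := k * a * k⁻¹ with hb
  have haW : a ∈ cenOf (S : Subgroup G) := conj_mem_cen hk hz
  have hbW : b ∈ cenOf (S : Subgroup G) := conj_mem_cen hk haW
  have ha1 : a ≠ 1 := fun e => hz1 (conj_eq_one_iff.1 e)
  have hb1 : b ≠ 1 := fun e => ha1 (conj_eq_one_iff.1 e)
  have hza : z ≠ a := fun e => hmove (mem_cent_iff.2 e.symm)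
  have hba : b ≠ a := fun e => hza (mul_left_cancel (mul_right_cancel e)).symm
  have h2 : k ^ 2 * z * (k ^ 2)⁻¹ = b := by rw [hb, ha, pow_two]; group
  have hbz : b ≠ z := fun e => hmove (mem_of_pow_coprime (a := 2) (b := orderOf k)
    (Nat.coprime_two_left.2 hodd) (mem_cent_iff.2 (h2.trans e)) (by rw [pow_orderOf_eq_one]; exact one_mem _))
  rcases h.cen_cases hz haW hz1 ha1 hza hbW with e | e | e | e
  · exact absurd e hb1
  · exact absurd e hbz
  · exact absurd e hba
  refine ⟨mem_cent_iff.2 ?_, fun v hv hv1 => ?_⟩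
  · calc k ^ 3 * z * (k ^ 3)⁻¹ = k * b * k⁻¹ := by rw [← h2, pow_succ']; group
      _ = k * (z * a) * k⁻¹ := by rw [e]
      _ = k * z * k⁻¹ * (k * a * k⁻¹) := by group
      _ = a * b := by rw [← ha, ← hb]
      _ = z * (a * a) := by rw [e, ← mul_assoc, cenOf_comm hz haW.1, mul_assoc]
      _ = z := by rw [h.cen_sq haW, mul_one]
  · rcases h.cen_cases hz haW hz1 ha1 hza hv with e' | e' | e' | e'
    · exact absurd e' hv1
    · exact ⟨0, by rw [e']; simp⟩
    · exact ⟨1, by rw [e', pow_one]⟩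
    · exact ⟨2, by rw [h2, e', e]⟩

/-- an odd complement of `S` in its normaliser -/
theorem exists_complement (S : Sylow 2 G) :
    ∃ H : Subgroup G, H ≤ normalizer ((S : Subgroup G) : Set G) ∧ Odd (Nat.card H) ∧
      ∀ n ∈ normalizer ((S : Subgroup G) : Set G), ∃ s ∈ (S : Subgroup G), ∃ k ∈ H, n = s * k := by
  haveI : Fact (Nat.Prime 2) := ⟨Nat.prime_two⟩
  set N := normalizer ((S : Subgroup G) : Set G) with hN
  set A := (S : Subgroup G).subgroupOf N with hA
  haveI : A.Normal := (normal_subgroupOf_iff_le_normalizer le_normalizer).2 le_rfl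
  have hidx : ¬ 2 ∣ A.index := fun h2 => S.not_dvd_index (h2.trans (relIndex_dvd_index_of_le le_normalizer))
  have hHall : (Nat.card A).Coprime A.index := by
    obtain ⟨k, hk⟩ := S.2.exists_card_eq
    rw [show Nat.card A = 2 ^ k from (Nat.card_congr (subgroupOfEquivOfLe le_normalizer).toEquiv).trans hk]
    exact Nat.Coprime.pow_left k (Nat.prime_two.coprime_iff_not_dvd.2 hidx)
  obtain ⟨H, hH⟩ := exists_right_complement'_of_coprime hHall
  refine ⟨H.map N.subtype, map_subtype_le _, ?_, fun n hn => ?_⟩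
  · rw [card_map_of_injective N.subtype_injective, ← hH.symm.index_eq_card, ← Nat.not_even_iff_odd,
      even_iff_two_dvd]
    exact hidx
  · obtain ⟨s, hs, k, hk, e⟩ := mem_sup_of_normal_left.1
      (hH.sup_eq_top.ge (mem_top (⟨n, hn⟩ : N)) : _ ∈ A ⊔ H)
    exact ⟨s, hs, k, mem_map_of_mem _ hk, (congrArg Subtype.val e).symm⟩

theorem index_dvd_card_of_stabilizer {K : Type*} [Group K] [Finite K] {α : Type*} [Finite α] [MulAction K α]
    (L : Subgroup K) (hL : ∀ x : α, MulAction.stabilizer K x = L) : L.index ∣ Nat.card α := by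
  classical
  haveI := Fintype.ofFinite (MulAction.orbitRel.Quotient K α)
  rw [Nat.card_congr (MulAction.selfEquivSigmaOrbitsQuotientStabilizer K α), Nat.card_sigma]
  exact Finset.dvd_sum fun x _ => by rw [hL, Subgroup.index_eq_card]

/-- the complement acts freely on the noncentral cosets -/
theorem free_action (S : Sylow 2 G) (h : UFour (S : Subgroup G)) (H : Subgroup G)
    (hH : H ≤ normalizer ((S : Subgroup G) : Set G)) (hodd : Odd (Nat.card H)) :
    ((centralizer ((S : Subgroup G) : Set G)).subgroupOf H).index ∣ 15 ∧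
    (((centralizer ((S : Subgroup G) : Set G)).subgroupOf H).index = 15 →
      ∀ a ∈ (S : Subgroup G), ∀ b ∈ (S : Subgroup G), a ∉ cenOf (S : Subgroup G) →
        b ∉ cenOf (S : Subgroup G) → ∃ k ∈ H, (k * a * k⁻¹)⁻¹ * b ∈ cenOf (S : Subgroup G)) := by
  classical
  set R := (S : Subgroup G) with hR
  set L := (centralizer (R : Set G)).subgroupOf H with hL
  set W' := (cenOf R).subgroupOf R with hW'
  haveI : W'.Normal := ⟨fun x hx g => by
    refine mem_subgroupOf.2 ?_
    have hgx : ((g * x * g⁻¹ : R) : G) = (x : G) :=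
      mul_inv_eq_iff_eq_mul.2 (cenOf_comm (show (x : G) ∈ cenOf R from hx) g.2)
    rw [hgx]
    exact hx⟩
  have hconj : ∀ k : H, ∀ x : R, (k : G) * x * (k : G)⁻¹ ∈ R := fun k x =>
    (mem_normalizer_iff.1 (hH k.2) x).1 x.2
  let c : H → (R →* R) := fun k => MonoidHom.mk' (fun x => ⟨(k : G) * x * (k : G)⁻¹, hconj k x⟩)
    fun x y => Subtype.ext (by show (k : G) * (x * y) * (k : G)⁻¹ = _ * _; group)
  have hc : ∀ k : H, W' ≤ W'.comap (c k) := fun k x hx =>
    show ((c k x : R) : G) ∈ cenOf R from conj_mem_cen (hH k.2) (mem_subgroupOf.1 hx)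
  let φ : H → R ⧸ W' → R ⧸ W' := fun k => QuotientGroup.map W' W' (c k) (hc k)
  have hφ1 : ∀ x, φ 1 x = x := fun x => QuotientGroup.induction_on x fun y =>
    congrArg (QuotientGroup.mk (s := W')) (Subtype.ext (by show ((1 : H) : G) * y * _ = y; simp))
  have hφmul : ∀ k k' x, φ (k * k') x = φ k (φ k' x) := fun k k' x => QuotientGroup.induction_on x fun y =>
    congrArg (QuotientGroup.mk (s := W')) (Subtype.ext (by
      show ((k * k' : H) : G) * y * _ = (k : G) * ((k' : G) * y * (k' : G)⁻¹) * (k : G)⁻¹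
      simp only [Subgroup.coe_mul]; group))
  have hφne : ∀ k x, x ≠ 1 → φ k x ≠ 1 := fun k x hx e => hx (by
    have := congrArg (φ k⁻¹) e
    rwa [← hφmul, inv_mul_cancel, hφ1, show φ k⁻¹ 1 = 1 from map_one (QuotientGroup.map W' W' (c k⁻¹) (hc k⁻¹))] at this)
  letI : MulAction H {x : R ⧸ W' // x ≠ 1} :=
    { smul := fun k x => ⟨φ k x, hφne k x x.2⟩
      one_smul := fun x => Subtype.ext (hφ1 x)
      mul_smul := fun k k' x => Subtype.ext (hφmul k k' x) }
  have hstab : ∀ x : {x : R ⧸ W' // x ≠ 1}, MulAction.stabilizer H x = L := by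
    rintro ⟨x, hx⟩
    obtain ⟨⟨a, ha⟩, rfl⟩ := QuotientGroup.mk_surjective x
    have haW : a ∉ cenOf R := fun e => hx ((QuotientGroup.eq_one_iff _).2 (mem_subgroupOf.2 e))
    ext k
    rw [MulAction.mem_stabilizer_iff]
    constructor
    · intro e
      have e' : φ k (⟨a, ha⟩ : R) = ((⟨a, ha⟩ : R) : R ⧸ W') := congrArg Subtype.val e
      have h1 : ((k : G) * a * (k : G)⁻¹)⁻¹ * a ∈ cenOf R :=
        (QuotientGroup.eq (s := W') (a := c k ⟨a, ha⟩) (b := ⟨a, ha⟩)).1 e'
      set w := ((k : G) * a * (k : G)⁻¹)⁻¹ * a with hw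
      have hka : (k : G) * a * (k : G)⁻¹ = a * w⁻¹ := by rw [hw]; group
      have hsq : (k : G) * (a * a) * (k : G)⁻¹ = a * a := by
        calc (k : G) * (a * a) * (k : G)⁻¹ = a * w⁻¹ * (a * w⁻¹) := by rw [← hka]; group
          _ = a * a := h.sq_coset ha (inv_mem h1)
      refine mem_subgroupOf.2 (mem_centralizer_iff.2 fun y hy => ?_)
      refine (mul_inv_eq_iff_eq_mul.1 (h.semifree (g := (k : G)) (c := a) ?_ (fun x hx => hconj k ⟨x, hx⟩)
        (fun v hv => mul_inv_eq_iff_eq_mul.1 (cen_fix S h (hH k.2) (h.sq_cen a ha) (h.sq_ne_one ha haW) hsq v hv))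
        ha haW ?_ y hy)).symm
      · exact hodd.of_dvd_nat (Subgroup.orderOf_dvd_natCard H k.2)
      · rw [hka, cenOf_comm (inv_mem h1) ha, mul_inv_cancel_right]
        exact inv_mem h1
    · intro hk
      refine Subtype.ext (congrArg (QuotientGroup.mk (s := W')) (Subtype.ext ?_))
      exact mul_inv_eq_iff_eq_mul.2 (mem_centralizer_iff.1 (mem_subgroupOf.1 hk) a ha).symm
  have hcard : Nat.card {x : R ⧸ W' // x ≠ 1} = 15 := by
    have h1 : Nat.card (R ⧸ W') = 16 := by
      have h2 := W'.card_mul_index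
      rw [Nat.card_congr (subgroupOfEquivOfLe (fun x hx => hx.1 : cenOf R ≤ R)).toEquiv, h.card_cen,
        h.card_all] at h2
      rw [← Subgroup.index_eq_card]
      omega
    haveI := Fintype.ofFinite (R ⧸ W')
    rw [Nat.card_eq_fintype_card] at h1 ⊢
    rw [Fintype.card_subtype_compl, h1, Fintype.card_subtype_eq]
  refine ⟨hcard ▸ index_dvd_card_of_stabilizer L hstab, fun h15 a ha b hb haW hbW => ?_⟩
  set x : {x : R ⧸ W' // x ≠ 1} := ⟨((⟨a, ha⟩ : R) : R ⧸ W'),
    fun e => haW (mem_subgroupOf.1 ((QuotientGroup.eq_one_iff _).1 e))⟩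
  set y : {x : R ⧸ W' // x ≠ 1} := ⟨((⟨b, hb⟩ : R) : R ⧸ W'),
    fun e => hbW (mem_subgroupOf.1 ((QuotientGroup.eq_one_iff _).1 e))⟩
  have horb : MulAction.orbit H x = Set.univ := Set.eq_of_subset_of_ncard_le (Set.subset_univ _) (by
    rw [Set.ncard_univ, hcard, ← MulAction.index_stabilizer, hstab, h15]) (Set.toFinite _)
  obtain ⟨k, hk⟩ : y ∈ MulAction.orbit H x := horb ▸ Set.mem_univ y
  exact ⟨k, k.2, (QuotientGroup.eq (s := W') (a := c k ⟨a, ha⟩) (b := ⟨b, hb⟩)).1 (show φ k (⟨a, ha⟩ : R) = ((⟨b, hb⟩ : R) : R ⧸ W') from congrArg Subtype.val hk)⟩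

end Cfsg.Lib.Lyons
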