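/-
Groups with a Sylow 2-subgroup of type `U₃(4)` and no strongly embedded subgroup: the local structure (piece L1).
-/
import Cfsg.Agent.Lyons.Local.Normalizer

set_option autoImplicit false
set_option linter.unusedSectionVars false
set_option linter.style.haveILetI false

namespace Cfsg.Lib.Lyons

open Subgroup Cfsg.Lib.InvolCalc Cfsg.Lib.StrongEmb Cfsg.Lib.BenderSE Cfsg.Lib.BenderSE.Ring2

universe u

/-- a group of order 15 has an element of order 15 -/
theorem exists_orderOf_fifteen {Q : Type*} [Group Q] [Finite Q] (hQ : Nat.card Q = 15) :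
    ∃ g : Q, orderOf g = 15 := by
  haveI : Fact (Nat.Prime 5) := ⟨by norm_num⟩
  haveI : Fact (Nat.Prime 3) := ⟨Nat.prime_three⟩
  obtain ⟨x, hx⟩ := exists_prime_orderOf_dvd_card' (G := Q) 5 (by rw [hQ]; norm_num)
  obtain ⟨y, hy⟩ := exists_prime_orderOf_dvd_card' (G := Q) 3 (by rw [hQ]; norm_num)
  have hidx : (zpowers x).index = 3 := by
    have h1 := (zpowers x).card_mul_index
    rw [Nat.card_zpowers, hx, hQ] at h1
    omega
  haveI : (zpowers x).Normal := normal_of_index_eq_minFac_card (by rw [hidx, hQ]; norm_num)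
  obtain ⟨a, ha⟩ := Subgroup.mem_zpowers_iff.1
    ((inferInstance : (zpowers x).Normal).conj_mem x (mem_zpowers x) y)
  rw [← zpow_mod_orderOf, hx] at ha
  have hcast : ((5 : ℕ) : ℤ) = 5 := rfl
  rw [hcast] at ha
  obtain ⟨b, hb⟩ : ∃ b : ℕ, a % 5 = b := ⟨(a % 5).toNat, (Int.toNat_of_nonneg (Int.emod_nonneg a (by norm_num))).symm⟩
  rw [hb, zpow_natCast] at ha
  have hb5 : b < 5 := by omega
  have hstep : ∀ j : ℕ, y ^ j * x * (y ^ j)⁻¹ = x ^ (b ^ j) := by
    intro j
    induction j with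
    | zero => simp
    | succ j ih =>
      rw [pow_succ', show y * y ^ j * x * (y * y ^ j)⁻¹ = y * (y ^ j * x * (y ^ j)⁻¹) * y⁻¹ by group, ih,
        ← conj_pow, ← ha, ← pow_mul, ← pow_succ']
  have h3 := hstep 3
  rw [← hy, pow_orderOf_eq_one, one_mul, inv_one, mul_one, hy] at h3
  have hmod : b ^ 3 % 5 = 1 := by
    have h4 : x ^ 1 = x ^ b ^ 3 := by rw [pow_one]; exact h3
    have h5 := pow_eq_pow_iff_modEq.1 h4
    rw [hx] at h5
    exact h5.symm
  have hb1 : b = 1 := (show ∀ c < 5, c ^ 3 % 5 = 1 → c = 1 by decide) b hb5 hmod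
  rw [hb1, pow_one] at ha
  have hc : Commute x y := (mul_inv_eq_iff_eq_mul.1 ha.symm).symm
  exact ⟨x * y, by rw [hc.orderOf_mul_eq_mul_orderOf_of_coprime (by rw [hx, hy]; norm_num), hx, hy]⟩

variable {G : Type u} [Group G] [Finite G]

/-- conjugate elements of `S` are conjugate in `N(S)` -/
theorem fusion (S : Sylow 2 G) (h : UFour (S : Subgroup G)) : ∀ a ∈ (S : Subgroup G), ∀ b ∈ (S : Subgroup G),
    IsConj a b → ∃ n ∈ normalizer ((S : Subgroup G) : Set G), n * a * n⁻¹ = b := by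
  haveI : Fact (Nat.Prime 2) := ⟨Nat.prime_two⟩
  set R := (S : Subgroup G) with hR
  have hcen : ∀ t ∈ cenOf R, ∀ s ∈ cenOf R, ∀ g : G, g * t * g⁻¹ = s →
      ∃ n ∈ normalizer (R : Set G), n * t * n⁻¹ = s := by
    intro t ht s hs g hg
    have hn : ∀ u ∈ cenOf R, R ≤ normalizer ({u} : Set G) := fun u hu y hy => by
      refine Subgroup.mem_set_normalizer_iff.2 fun v => ?_
      simp only [Set.mem_singleton_iff]
      rw [mul_inv_eq_iff_eq_mul, ← cenOf_comm hu hy, mul_right_inj]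
    obtain ⟨n, hn', he⟩ := Cfsg.Lib.Transfer.burnside_fusion_set S {t} {s} (hn t ht) (hn s hs) g
      (by simp only [Set.image_singleton, hg])
    simp only [Set.image_singleton, Set.singleton_eq_singleton_iff] at he
    exact ⟨n, hn', he⟩
  intro a ha b hb hab
  obtain ⟨g, hg⟩ := isConj_iff.1 hab
  by_cases haW : a ∈ cenOf R
  · refine hcen a haW b ((h.cen_iff b hb).1 ?_) g hg
    rw [← hg, show g * a * g⁻¹ * (g * a * g⁻¹) = g * (a * a) * g⁻¹ by group, h.cen_sq haW, mul_one, mul_inv_cancel]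
  have hg2 : g * (a * a) * g⁻¹ = b * b := by rw [← hg]; group
  obtain ⟨n, hn, hn'⟩ := hcen _ (h.sq_cen a ha) _ (h.sq_cen b hb) g hg2
  have hmem : n⁻¹ * g ∈ centralizer ({a * a} : Set G) := mem_cent_iff.2 (by
    rw [show n⁻¹ * g * (a * a) * (n⁻¹ * g)⁻¹ = n⁻¹ * (g * (a * a) * g⁻¹) * n by group, hg2, ← hn']
    group)
  obtain ⟨hdec, -⟩ := centralizer_structure S h (h.sq_cen a ha) (h.sq_ne_one ha haW)
  obtain ⟨o, ho, m, hm, hmz, e⟩ := hdec _ hmem
  have hx : m * a * m⁻¹ ∈ R := (mem_normalizer_iff.1 hm a).1 ha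
  set x := m * a * m⁻¹ with hxdef
  have hb' : n⁻¹ * b * n ∈ R := (mem_normalizer_iff''.1 hn b).1 hb
  have hox : o * x * o⁻¹ = n⁻¹ * b * n := by
    calc o * x * o⁻¹ = o * m * a * (o * m)⁻¹ := by rw [hxdef]; group
      _ = n⁻¹ * g * a * (n⁻¹ * g)⁻¹ := by rw [← e]
      _ = n⁻¹ * (g * a * g⁻¹) * n := by group
      _ = n⁻¹ * b * n := by rw [hg]
  set O := GW.Core (centralizer ({a * a} : Set G)) with hO
  have hxC : x ∈ centralizer ({a * a} : Set G) :=
    mem_centralizer_singleton_iff.2 (cenOf_comm (h.sq_cen a ha) hx)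
  have hcomm : o * x * o⁻¹ * x⁻¹ ∈ O := by
    rw [show o * x * o⁻¹ * x⁻¹ = o * (x * o⁻¹ * x⁻¹) by group]
    exact mul_mem ho (conj_mem_core hxC (inv_mem ho))
  have h1 := eq_one_of_mem_odd S O (odd_core _) (mul_mem (hox ▸ hb') (inv_mem hx)) hcomm
  rw [mul_inv_eq_one, hox] at h1
  refine ⟨n * m, mul_mem hn hm, ?_⟩
  calc n * m * a * (n * m)⁻¹ = n * x * n⁻¹ := by rw [hxdef]; group
    _ = b := by rw [← h1]; group

/-- the criterion: a proper subgroup containing `C(z)` and a rotation is strongly embedded -/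
theorem eq_top_of_centralizer_le (S : Sylow 2 G) (h : UFour (S : Subgroup G))
    (hnse : ¬ ∃ M : Subgroup G, Cfsg.IsStronglyEmbedded M) {z k : G}
    (hz : z ∈ cenOf (S : Subgroup G)) (hz1 : z ≠ 1) (hk : k ∈ normalizer ((S : Subgroup G) : Set G))
    (hodd : Odd (orderOf k)) (hmove : k ∉ centralizer ({z} : Set G)) {M : Subgroup G}
    (hCM : centralizer ({z} : Set G) ≤ M) (hkM : k ∈ M) : M = ⊤ := by
  obtain ⟨-, hrot⟩ := three_cycle S h hz hz1 hk hodd hmove
  set R := (S : Subgroup G) with hR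
  have hinv : ∀ t ∈ R, orderOf t = 2 → t ∈ cenOf R ∧ t ≠ 1 := fun t ht ho =>
    ⟨h.mem_cen_of_sq ht (by rw [← ho, pow_orderOf_eq_one]), fun e => by rw [e, orderOf_one] at ho; omega⟩
  refine (normal_or_embedded S (fun x hx => hCM (mem_centralizer_singleton_iff.2 (cenOf_comm hz hx)))
    (even_iff_two_dvd.2 (h.orderOf_eq_two hz hz1 ▸ _root_.orderOf_dvd_natCard z)) ?_ ?_).resolve_right
    fun hT => hnse ⟨M, hT⟩
  · intro t ht ho
    obtain ⟨i, hi⟩ := hrot t (hinv t ht ho).1 (hinv t ht ho).2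
    rw [hi, ← centralizer_conj]
    rintro _ ⟨x, hx, rfl⟩
    exact mul_mem (mul_mem (pow_mem hkM i) (hCM hx)) (inv_mem (pow_mem hkM i))
  · intro t ht s hs ho g hg
    have hso : orderOf s = 2 := by rw [← hg, orderOf_conj', ho]
    obtain ⟨i, hi⟩ := hrot t (hinv t ht ho).1 (hinv t ht ho).2
    obtain ⟨j, hj⟩ := hrot s (hinv s hs hso).1 (hinv s hs hso).2
    exact ⟨k ^ j * (k ^ i)⁻¹, mul_mem (pow_mem hkM j) (inv_mem (pow_mem hkM i)), by rw [hi, hj]; group⟩

variable [IsSimpleGroup G]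

/-- no involution is central in the normaliser -/
theorem exists_mover (S : Sylow 2 G) (h : UFour (S : Subgroup G)) {z : G}
    (hz : z ∈ cenOf (S : Subgroup G)) (hz1 : z ≠ 1) :
    ∃ n ∈ normalizer ((S : Subgroup G) : Set G), n ∉ centralizer ({z} : Set G) := by
  by_contra hall
  push Not at hall
  have ho := h.orderOf_eq_two hz hz1
  have hiso : Cfsg.IsIsolatedInvolution z := by
    refine ⟨ho, fun g hg => isolated_of_unique S ho (fun g hg => ?_) hg⟩
    obtain ⟨n, hn, he⟩ := fusion S h z hz.1 _ hg (isConj_iff.2 ⟨g, rfl⟩)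
    rw [← he]
    exact mem_cent_iff.1 (hall n hn)
  have hbot : Cfsg.oddCore G = ⊥ := by
    refine ((inferInstance : (Cfsg.oddCore G).Normal).eq_bot_or_eq_top).resolve_right fun e => ?_
    have hodd : Odd (Nat.card G) := by
      have := odd_oddCore (G := G)
      rwa [e, card_top] at this
    exact (Nat.not_even_iff_odd.2 hodd) (even_iff_two_dvd.2 (ho ▸ _root_.orderOf_dvd_natCard z))
  have hzc : ∀ g : G, z * g = g * z := fun g => by
    have h1 : z * g * z⁻¹ * g⁻¹ ∈ Cfsg.oddCore G := ZStarApps.zstarProp hiso g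
    rw [hbot, mem_bot, mul_inv_eq_one, mul_inv_eq_iff_eq_mul] at h1
    exact h1
  haveI : (zpowers z).Normal := ⟨fun x hx g => by
    obtain ⟨i, rfl⟩ := mem_zpowers_iff.1 hx
    rw [((show Commute g z from (hzc g).symm).zpow_right i).eq, mul_inv_cancel_right]
    exact zpow_mem (mem_zpowers z) i⟩
  rcases (inferInstance : (zpowers z).Normal).eq_bot_or_eq_top with e | e
  · exact hz1 (zpowers_eq_bot.1 e)
  · have h1 : Nat.card G = 2 := by rw [← card_top (G := G), ← e, Nat.card_zpowers, ho]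
    have h2 := card_subgroup_dvd_card (S : Subgroup G)
    rw [h.card_all, h1] at h2
    exact absurd h2 (by norm_num)

/-- Piece L1 -/
theorem setupSpec : SetupSpec.{u} := by
  intro G _ _ _ S h hnse
  haveI : Fact (Nat.Prime 2) := ⟨Nat.prime_two⟩
  set R := (S : Subgroup G) with hR
  obtain ⟨z, hz, hz1⟩ : ∃ z ∈ cenOf R, z ≠ 1 := by
    by_contra h0
    push Not at h0
    have h1 := h.card_cen
    rw [show cenOf R = ⊥ from (Subgroup.eq_bot_iff_forall _).2 h0, card_bot] at h1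
    omega
  set C := centralizer ({z} : Set G) with hC
  obtain ⟨hdec, hodd_cent⟩ := centralizer_structure S h hz hz1
  obtain ⟨n₀, hn₀, hn₀z⟩ := exists_mover S h hz hz1
  obtain ⟨H, hHN, hHodd, hHdec⟩ := exists_complement S
  have hord : ∀ k ∈ H, Odd (orderOf k) := fun k hk => hHodd.of_dvd_nat (Subgroup.orderOf_dvd_natCard H hk)
  have hRC : R ≤ C := fun x hx => mem_centralizer_singleton_iff.2 (cenOf_comm hz hx)
  obtain ⟨h₀, hh₀, hh₀C⟩ : ∃ k ∈ H, k ∉ C := by
    obtain ⟨s, hs, k, hk, e⟩ := hHdec n₀ hn₀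
    exact ⟨k, hk, fun hkC => hn₀z (e ▸ mul_mem (hRC hs) hkC)⟩
  have hcentC : centralizer (R : Set G) ≤ C := fun x hx =>
    mem_centralizer_singleton_iff.2 (mem_centralizer_iff.1 hx z hz.1).symm
  set L := (centralizer (R : Set G)).subgroupOf H with hL
  haveI : L.Normal := ⟨fun x hx g => by
    refine mem_subgroupOf.2 (mem_centralizer_iff.2 fun y hy => ?_)
    have hy' : (g : G)⁻¹ * y * g ∈ R := (mem_normalizer_iff''.1 (hHN g.2) y).1 hy
    have h1 := mem_centralizer_iff.1 (mem_subgroupOf.1 hx) _ hy'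
    simp only [Subgroup.coe_mul, Subgroup.coe_inv]
    calc y * ((g : G) * x * (g : G)⁻¹) = (g : G) * ((g : G)⁻¹ * y * g * x) * (g : G)⁻¹ := by group
      _ = (g : G) * (x * ((g : G)⁻¹ * y * g)) * (g : G)⁻¹ := by rw [h1]
      _ = _ := by group⟩
  have hL_O : ∀ k : H, k ∈ L → (k : G) ∈ GW.Core C := fun k hk =>
    hodd_cent k (hord k k.2) fun s hs =>
      mul_inv_eq_iff_eq_mul.2 (mem_centralizer_iff.1 (mem_subgroupOf.1 hk) s hs).symm
  have hLs : ∀ k : H, k ∈ L → ∀ s ∈ R, s * (k : G) = k * s := fun k hk s hs =>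
    mem_centralizer_iff.1 (mem_subgroupOf.1 hk) s hs
  obtain ⟨hd15, htrans⟩ := free_action S h H hHN hHodd
  -- `C` is covered by `O`, `S` and `H ∩ C`
  have hCdec : ∀ c ∈ C, ∃ o ∈ GW.Core C, ∃ s ∈ R, ∃ k ∈ H, k ∈ C ∧ c = o * (s * k) := by
    intro c hc
    obtain ⟨o, ho, n, hn, hnz, e⟩ := hdec c hc
    obtain ⟨s, hs, k, hk, e'⟩ := hHdec n hn
    refine ⟨o, ho, s, hs, k, hk, ?_, by rw [e, e']⟩
    have h1 : n ∈ C := mem_cent_iff.2 hnz
    rw [show k = s⁻¹ * n by rw [e', inv_mul_cancel_left]]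
    exact mul_mem (inv_mem (hRC hs)) h1
  -- a rotation gives everything but the last clause
  have hbuild : ∀ f ∈ H, f ∉ C → ∃ F : Frame G, F.S = S ∧ F.Good ∧ F.f = f ∧ F.z = z := by
    intro f hf hfC
    refine ⟨⟨S, h, z, hz, hz1, f, hord f hf, hHN hf, fun e => hfC (mem_cent_iff.2 e)⟩, rfl,
      ⟨fusion S h, fun M hM hfM => eq_top_of_centralizer_le S h hnse hz hz1 (hHN hf) (hord f hf) hfC hM hfM, ?_⟩,
      rfl, rfl⟩
    intro hO
    set N := normalizer (cenOf R : Set G) with hN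
    have hCN : C ≤ N := by
      intro c hc
      obtain ⟨o, ho, n, hn, -, e⟩ := hdec c hc
      rw [e]
      exact mul_mem (centralizer_le_normalizer _ (hO ho)) (normalizer_le_normalizer_cenOf R hn)
    have htop : N = ⊤ := eq_top_of_centralizer_le S h hnse hz hz1 (hHN hf) (hord f hf) hfC hCN
      (normalizer_le_normalizer_cenOf R (hHN hf))
    rcases ((normalizer_eq_top_iff.1 htop).eq_bot_or_eq_top) with e | e
    · exact hz1 (by rw [e, mem_bot] at hz; exact hz)
    · have h1 := h.card_cen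
      rw [e, card_top] at h1
      have h2 := card_subgroup_dvd_card R
      rw [h.card_all, h1] at h2
      exact absurd h2 (by norm_num)
  set π := QuotientGroup.mk' L with hπ
  have hsurj : Function.Surjective π := QuotientGroup.mk'_surjective L
  have hπ1 : ∀ {k : H}, π k = 1 ↔ k ∈ L := fun {k} => QuotientGroup.eq_one_iff k
  -- `3` divides the automiser
  have h3d : 3 ∣ L.index := by
    by_contra h3
    have h5 : L.index ∣ 5 := (Nat.Coprime.dvd_of_dvd_mul_right
      (Nat.Coprime.symm ((Nat.prime_three.coprime_iff_not_dvd).2 h3)) (show L.index ∣ 5 * 3 from hd15))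
    have h1 : π ⟨h₀, hh₀⟩ ^ 5 = 1 := by
      refine orderOf_dvd_iff_pow_eq_one.1 (dvd_trans ?_ h5)
      rw [Subgroup.index_eq_card]
      exact _root_.orderOf_dvd_natCard _
    rw [← map_pow, hπ1] at h1
    exact hh₀C (mem_of_pow_coprime (a := 5) (b := 3) (by norm_num) (hcentC (mem_subgroupOf.1 h1))
      (three_cycle S h hz hz1 (hHN hh₀) (hord _ hh₀) hh₀C).1)
  have hcases : L.index = 3 ∨ L.index = 15 := by
    have h1 := Nat.le_of_dvd (by norm_num) hd15
    interval_cases h2 : L.index <;> simp_all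
  rcases hcases with hidx | hidx
  · -- `E = 1`
    obtain ⟨F, hFS, hFgood, hFf, hFz⟩ := hbuild h₀ hh₀ hh₀C
    have hgen : ∀ k : H, ∃ i : ℕ, (⟨h₀, hh₀⟩ ^ i)⁻¹ * k ∈ L := by
      intro k
      haveI : Fact (Nat.Prime 3) := ⟨Nat.prime_three⟩
      have hne : π ⟨h₀, hh₀⟩ ≠ 1 := fun e => hh₀C (hcentC (mem_subgroupOf.1 (hπ1.1 e)))
      have h1 : π k ∈ zpowers (π ⟨h₀, hh₀⟩) :=
        mem_zpowers_of_prime_card (p := 3) (by rw [← Subgroup.index_eq_card]; exact hidx) hne
      obtain ⟨i, hi⟩ := (isOfFinOrder_of_finite _).mem_powers_iff_mem_zpowers.2 h1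
      exact ⟨i, QuotientGroup.eq.1 (show π (⟨h₀, hh₀⟩ ^ i) = π k by rw [map_pow]; exact hi)⟩
    refine ⟨F, hFS, hFgood, Or.inl ⟨fun c hc => ?_, fun a ha b hb haW hab => ?_⟩⟩
    · rw [Frame.C, hFz] at hc
      obtain ⟨o, ho, s, hs, k, hk, hkC, e⟩ := hCdec c hc
      obtain ⟨i, hi⟩ := hgen ⟨k, hk⟩
      have hi3 : (⟨h₀, hh₀⟩ : H) ^ i ∈ L := by
        have h1 : h₀ ^ i ∈ C := by
          have h2 := hcentC (mem_subgroupOf.1 hi)
          simp only [Subgroup.coe_mul, Subgroup.coe_inv, SubgroupClass.coe_pow] at h2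
          have h3 := mul_mem h2 (inv_mem hkC)
          rw [mul_inv_cancel_right] at h3
          exact inv_mem_iff.1 h3
        have h3i : 3 ∣ i := by
          by_contra h3i
          exact hh₀C (mem_of_pow_coprime (a := i) (b := 3)
            (Nat.prime_three.coprime_iff_not_dvd.2 h3i).symm h1
            (three_cycle S h hz hz1 (hHN hh₀) (hord _ hh₀) hh₀C).1)
        obtain ⟨j, rfl⟩ := h3i
        rw [← hπ1, map_pow, pow_mul,
          show π ⟨h₀, hh₀⟩ ^ 3 = 1 by rw [← hidx, Subgroup.index_eq_card]; exact pow_card_eq_one',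
          one_pow]
      have hkL : (⟨k, hk⟩ : H) ∈ L := by
        have := L.mul_mem hi3 hi
        rwa [mul_inv_cancel_left] at this
      refine ⟨o * k, ?_, s, hFS ▸ hs, ?_⟩
      · rw [Frame.O, Frame.C, hFz]
        exact mul_mem ho (hL_O _ hkL)
      · rw [e, show s * k = k * s from hLs _ hkL s hs, mul_assoc]
    · rw [Frame.W, hFS] at haW ⊢
      rw [hFS] at ha hb
      obtain ⟨n, hn, hnab⟩ := fusion S h a ha b hb hab
      obtain ⟨s, hs, k, hk, e⟩ := hHdec n hn
      obtain ⟨i, hi⟩ := hgen ⟨k, hk⟩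
      set l := (⟨h₀, hh₀⟩ ^ i)⁻¹ * (⟨k, hk⟩ : H) with hldef
      refine ⟨i, ?_⟩
      rw [hFf]
      have hk' : k = h₀ ^ i * (l : G) := by
        rw [hldef]; simp
      have hla : (l : G) * a * (l : G)⁻¹ = a := mul_inv_eq_iff_eq_mul.2 (hLs _ hi a ha).symm
      set x := h₀ ^ i * a * (h₀ ^ i)⁻¹ with hx
      have hxR : x ∈ R := (mem_normalizer_iff.1 (pow_mem (hHN hh₀) i) a).1 ha
      have hb' : b = s * x * s⁻¹ := by
        calc b = n * a * n⁻¹ := hnab.symm
          _ = s * (h₀ ^ i * ((l : G) * a * (l : G)⁻¹) * (h₀ ^ i)⁻¹) * s⁻¹ := by rw [e, hk']; group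
          _ = _ := by rw [hla]
      rw [hb', show x⁻¹ * (s * x * s⁻¹) = x⁻¹ * s * x⁻¹⁻¹ * s⁻¹ by group]
      exact h.comm_cen (inv_mem hxR) hs
  · -- `E = C₅`
    obtain ⟨q, hq⟩ := exists_orderOf_fifteen (Q := H ⧸ L) (by rw [← Subgroup.index_eq_card]; exact hidx)
    obtain ⟨g, rfl⟩ := hsurj q
    have hgen : ∀ k : H, ∃ i : ℕ, (g ^ i)⁻¹ * k ∈ L := by
      intro k
      have h1 : zpowers (π g) = ⊤ :=
        eq_top_of_card_eq _ (by rw [Nat.card_zpowers, hq, ← Subgroup.index_eq_card]; exact hidx.symm)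
      obtain ⟨i, hi⟩ := (isOfFinOrder_of_finite _).mem_powers_iff_mem_zpowers.2 (h1.ge (mem_top (π k)))
      exact ⟨i, QuotientGroup.eq.1 (show π (g ^ i) = π k by rw [map_pow]; exact hi)⟩
    have hgC : (g : G) ∉ C := by
      intro hgC
      obtain ⟨i, hi⟩ := hgen ⟨h₀, hh₀⟩
      have h2 := hcentC (mem_subgroupOf.1 hi)
      simp only [Subgroup.coe_mul, Subgroup.coe_inv, SubgroupClass.coe_pow] at h2
      have h3 := mul_mem (pow_mem hgC i) h2
      rw [mul_inv_cancel_left] at h3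
      exact hh₀C h3
    have hg3 : (g : G) ^ 3 ∈ C := (three_cycle S h hz hz1 (hHN g.2) (hord _ g.2) hgC).1
    haveI : Fact (Nat.Prime 5) := ⟨by norm_num⟩
    obtain ⟨v, m, hm5, hn⟩ := Nat.exists_eq_pow_mul_and_not_dvd (orderOf_pos (g : G)).ne' 5 (by norm_num)
    have h15 : 15 ∣ orderOf (g : G) := by
      rw [← hq, Subgroup.orderOf_coe]
      exact orderOf_map_dvd π g
    have hm3 : 3 ∣ m := by
      have h1 : 3 ∣ 5 ^ v * m := hn ▸ (dvd_trans (by norm_num) h15)
      exact (Nat.Coprime.dvd_of_dvd_mul_left (Nat.Coprime.pow_right v (by norm_num)) h1)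
    obtain ⟨m', hm'⟩ := hm3
    set f := (g : G) ^ 5 ^ v with hf
    set e := (g : G) ^ m with he
    have hfC : f ∉ C := fun hfC => hgC (mem_of_pow_coprime (a := 5 ^ v) (b := 3)
      (Nat.Coprime.pow_left v (by norm_num)) hfC hg3)
    have heC : e ∈ C := by
      rw [he, hm', pow_mul]
      exact pow_mem hg3 m'
    obtain ⟨F, hFS, hFgood, hFf, hFz⟩ := hbuild f (pow_mem g.2 _) hfC
    have heN : e ∈ normalizer (R : Set G) := pow_mem (hHN g.2) m
    refine ⟨F, hFS, hFgood, Or.inr ⟨{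
      e := e
      e_mem := ?_
      e_norm := hFS ▸ heN
      e_pgroup := ?_
      e_notMem := ?_
      e_pow := ?_
      e_cen := ?_
      f_comm := ?_
      cover := ?_
      classes := ?_ }⟩⟩
    · rw [Frame.C, hFz]; exact heC
    · refine IsPGroup.of_card (n := v) ?_
      rw [Nat.card_zpowers, he, orderOf_pow, hn, Nat.gcd_mul_left_left,
        Nat.mul_div_cancel _ (Nat.pos_of_ne_zero (by rintro rfl; exact hm5 (dvd_zero 5)))]
    · rw [Frame.O, Frame.C, hFz]
      intro heO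
      have heL : g ^ m ∈ L := by
        refine mem_subgroupOf.2 (mem_centralizer_iff.2 fun s hs => ?_)
        rw [SubgroupClass.coe_pow]
        have h1 : s * e * s⁻¹ * e⁻¹ ∈ GW.Core C := mul_mem (conj_mem_core (hRC hs) heO) (inv_mem heO)
        have h2 : s * e * s⁻¹ * e⁻¹ ∈ R := by
          rw [show s * e * s⁻¹ * e⁻¹ = s * (e * s⁻¹ * e⁻¹) by group]
          exact mul_mem hs ((mem_normalizer_iff.1 heN _).1 (inv_mem hs))
        have h3 := eq_one_of_mem_odd S _ (odd_core C) h2 h1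
        rw [mul_inv_eq_one, mul_inv_eq_iff_eq_mul] at h3
        exact h3
      rw [← hπ1, map_pow, ← orderOf_dvd_iff_pow_eq_one, hq] at heL
      exact hm5 (dvd_trans (by norm_num) heL)
    · rw [Frame.O, Frame.C, hFz, he, ← pow_mul]
      have hL5 : g ^ (m * 5) ∈ L := by
        rw [← hπ1, map_pow, ← orderOf_dvd_iff_pow_eq_one, hq, hm', mul_comm 3 m', mul_assoc]
        exact dvd_mul_left 15 m'
      exact hL_O _ hL5
    · intro w hw
      rw [Frame.W, hFS] at hw
      exact mul_inv_eq_iff_eq_mul.1 (cen_fix S h heN hz hz1 (mem_cent_iff.1 heC) w hw)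
    · rw [hFf, he, hf]
      exact pow_mul_comm _ _ _
    · intro c hc
      rw [Frame.C, hFz] at hc
      rw [Frame.O, Frame.C, hFz, hFS]
      obtain ⟨o, ho, s, hs, k, hk, hkC, ec⟩ := hCdec c hc
      obtain ⟨i, hi⟩ := hgen ⟨k, hk⟩
      have h1 : (g : G) ^ i ∈ C := by
        have h2 := hcentC (mem_subgroupOf.1 hi)
        simp only [Subgroup.coe_mul, Subgroup.coe_inv, SubgroupClass.coe_pow] at h2
        have h3 := mul_mem h2 (inv_mem hkC)
        rw [mul_inv_cancel_right] at h3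
        exact inv_mem_iff.1 h3
      obtain ⟨i', rfl⟩ : 3 ∣ i := by
        by_contra h3i
        exact hgC (mem_of_pow_coprime (a := i) (b := 3)
          (Nat.prime_three.coprime_iff_not_dvd.2 h3i).symm h1 hg3)
      obtain ⟨j, hj⟩ : ∃ j : ℕ, i' ≡ m' * j [MOD 5] := by
        have hm'5 : m' % 5 ≠ 0 := fun h0 => hm5 (hm' ▸ (Nat.dvd_of_mod_eq_zero h0).mul_left 3)
        have h4 : m' ^ 4 ≡ 1 [MOD 5] := by
          have h5 := Nat.mod_lt m' (show (5 : ℕ) > 0 by norm_num)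
          unfold Nat.ModEq
          rw [Nat.pow_mod]
          exact (show ∀ c < 5, c ≠ 0 → c ^ 4 % 5 = 1 % 5 by decide) _ h5 hm'5
        refine ⟨m' ^ 3 * i', ?_⟩
        rw [← mul_assoc, ← pow_succ']
        simpa using (h4.mul_right i').symm
      have hl : (g ^ (m * j))⁻¹ * (⟨k, hk⟩ : H) ∈ L := by
        have e1 : π (g ^ (m * j)) = π (g ^ (3 * i')) := by
          rw [map_pow, map_pow, pow_eq_pow_iff_modEq, hq, hm', mul_assoc]
          exact (hj.symm.mul_left' 3)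
        have e3 : π (g ^ (3 * i')) = π (⟨k, hk⟩ : H) := QuotientGroup.eq.2 hi
        exact QuotientGroup.eq.1 (e1.trans e3)
      set l := (g ^ (m * j))⁻¹ * (⟨k, hk⟩ : H) with hldef
      set l' := g ^ (m * j) * l * (g ^ (m * j))⁻¹ with hl'
      have hl'L : l' ∈ L := (inferInstance : L.Normal).conj_mem l hl _
      have hk' : k = (l' : G) * e ^ j := by
        rw [hl', hldef, he, ← pow_mul]
        simp
      refine ⟨o * l', mul_mem ho (hL_O _ hl'L), s, hs, j, ?_⟩
      rw [ec, hk', ← mul_assoc s, hLs _ hl'L s hs]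
      group
    · intro a ha b hb haW hbW
      rw [Frame.W, hFS] at haW hbW
      rw [hFS] at ha hb
      obtain ⟨k, hk, hkab⟩ := htrans hidx a ha b hb haW hbW
      set x := k * a * k⁻¹ with hx
      have hxR : x ∈ R := (mem_normalizer_iff.1 (hHN hk) a).1 ha
      have hxW : x ∉ cenOf R := fun hxW => haW (by
        have h1 := conj_mem_cen (hHN (inv_mem hk)) hxW
        rwa [hx, inv_inv, show k⁻¹ * (k * a * k⁻¹) * k = a by group] at h1)
      obtain ⟨y, hy, hyx⟩ := h.exists_conj_eq_mul hxR hxW hkab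
      refine isConj_iff.2 ⟨y * k, ?_⟩
      calc y * k * a * (y * k)⁻¹ = y * x * y⁻¹ := by rw [hx]; group
        _ = x * (x⁻¹ * b) := by rw [hyx, cenOf_comm hkab hxR]
        _ = b := mul_inv_cancel_left x b

end Cfsg.Lib.Lyons
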